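import Groth.Agent.PCohLib.Stupid

/-!
Pseudo-coherence and triangulated functors.
-/

set_option autoImplicit false
set_option linter.style.haveILetI false
set_option linter.unusedSectionVars false
universe w v u w' v' u'

open CategoryTheory CategoryTheory.Limits CategoryTheory.Pretriangulated

namespace Groth.Agent.PCohLib

variable {C : Type u} [Category.{v} C] [Abelian C] [HasDerivedCategory.{w} C] {P : ObjectProperty C}
  [P.IsClosedUnderIsomorphisms] [P.ContainsZero]
  {C' : Type u'} [Category.{v'} C'] [Abelian C'] [HasDerivedCategory.{w'} C']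
  {P' : ObjectProperty C'} [P'.IsClosedUnderIsomorphisms] [P'.ContainsZero]
  (u : DerivedCategory C ⥤ DerivedCategory C') [u.CommShift ℤ] [u.IsTriangulated]

lemma isLE_map {b : ℤ}
    (hii : ∀ F : DerivedCategory C, (∀ i : ℤ, 0 < i → IsZero ((DerivedCategory.homologyFunctor C i).obj F)) →
      ∀ i : ℤ, b < i → IsZero ((DerivedCategory.homologyFunctor C' i).obj (u.obj F)))
    (X : DerivedCategory C) (k : ℤ) [X.IsLE k] : (u.obj X).IsLE (k + b) := by
  haveI : DerivedCategory.IsLE ((shiftFunctor (DerivedCategory C) k).obj X) 0 :=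
    DerivedCategory.TStructure.t.isLE_shift X k k 0 (by lia)
  haveI h' : DerivedCategory.IsLE (u.obj ((shiftFunctor (DerivedCategory C) k).obj X)) b :=
    (DerivedCategory.isLE_iff _ _).2
      (hii _ fun i hi => DerivedCategory.isZero_of_isLE _ 0 i hi)
  haveI : DerivedCategory.IsLE ((shiftFunctor (DerivedCategory C') k).obj (u.obj X)) b :=
    @Triangulated.TStructure.isLE_of_iso _ _ _ _ _ _ _ DerivedCategory.TStructure.t _ _
      ((u.commShiftIso k).app X) b h'
  exact DerivedCategory.TStructure.t.isLE_of_shift (u.obj X) (k + b) k b (by lia)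

variable (hsum' : ∀ X Y : C', P' X → P' Y → P' (X ⨯ Y))
  (hqs' : PCoh.IsQuasiStableUnderKernels P') (hql' : PCoh.IsQuasiLiftable P')

include hsum' hqs' hql'

lemma NPC_map_strict {a b : ℤ}
    (hi : ∀ E : C, P E → NPC P' a (u.obj ((DerivedCategory.singleFunctor C 0).obj E)))
    (hii : ∀ F : DerivedCategory C, (∀ i : ℤ, 0 < i → IsZero ((DerivedCategory.homologyFunctor C i).obj F)) →
      ∀ i : ℤ, b < i → IsZero ((DerivedCategory.homologyFunctor C' i).obj (u.obj F)))
    {m M : ℤ} (hm : m + b ≤ M) (n : ℤ) (hn : n + a ≤ M) (E : CochainComplex C ℤ)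
    (hE : ∀ i : ℤ, m ≤ i → P (E.X i)) (hz : ∀ i : ℤ, n < i → IsZero (E.X i)) :
    NPC P' M (u.obj (DerivedCategory.Q.obj E)) := by
  have base : ∀ (n : ℤ) (E : CochainComplex C ℤ), (∀ i : ℤ, n < i → IsZero (E.X i)) → n < m →
      NPC P' M (u.obj (DerivedCategory.Q.obj E)) := fun n E hz hnm => by
    haveI : (DerivedCategory.Q.obj E).IsLE n := by
      rw [DerivedCategory.isLE_iff]
      exact fun i hi => (ShortComplex.exact_of_isZero_X₂ (E.sc i) (hz i hi) |>
        (HomologicalComplex.exactAt_iff_isZero_homology E i).1).of_iso (homologyQIso E i)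
    haveI := isLE_map u hii (DerivedCategory.Q.obj E) n
    exact NPC_of_isLE _ (b := n + b) (by lia)
  obtain ⟨k, hk⟩ : ∃ k : ℕ, n < m + k := ⟨(n - m + 1).toNat, by lia⟩
  induction k generalizing E n with
  | zero => exact base n E hz (by lia)
  | succ k ih =>
    by_cases hnm : n < m
    · exact base n E hz hnm
    obtain ⟨S, hS, h₁, rfl, hz₃, hiso⟩ := exists_ses_top E n (hz _ (by lia))
    refine NPC.of_triangle₂ hsum' hqs' hql'
      (u.map_distinguished _ (DerivedCategory.triangleOfSES_distinguished hS)) ?_ ?_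
    · exact ((((hi (S.X₂.X n) (hE n (by lia))).shift (-n) (a + n) (by lia)).of_iso
        ((u.commShiftIso (-n)).app _).symm).of_iso
        (u.mapIso (singleShiftIso (-n) n 0 (by lia) _ ≪≫ (singleQIso n _).symm ≪≫
          eqToIso (by rw [← h₁]; rfl)))).mono (by lia)
    · refine ih (n - 1) (by lia) S.X₃ (fun i hi' => ?_) (fun i hi' => ?_) (by lia)
      · by_cases hin : i = n
        · exact P.prop_of_isZero (hin ▸ hz₃)
        · obtain ⟨e⟩ := hiso i hin
          exact P.prop_of_iso e (hE i hi')
      · by_cases hin : i = n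
        · exact hin ▸ hz₃
        · obtain ⟨e⟩ := hiso i hin
          exact (hz i (by lia)).of_iso e.symm

end Groth.Agent.PCohLib
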