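import Mathlib.CategoryTheory.Abelian.Refinements
import Mathlib.Algebra.Homology.Refinements
import Mathlib.Algebra.Homology.HomotopyCategory.MappingCone
import Mathlib.Algebra.Homology.SingleHomology
import Mathlib.Algebra.Homology.Augment
import Groth.Prelude.Def_PCoh

/-!
Library for pseudo-coherence over an abelian category: finite type objects, `n`-quasi-isomorphisms
and the cone criterion, extension of a complex along a map to a cone.
-/

set_option autoImplicit false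
set_option linter.style.haveILetI false
set_option linter.unusedSectionVars false
universe v u

open CategoryTheory CategoryTheory.Limits CochainComplex CochainComplex.HomComplex

namespace Groth.Agent.PCohLib

variable {C : Type u} [Category.{v} C] [Abelian C]

section FT

variable {P : ObjectProperty C}

lemma ft_of_mem {X : C} (h : P X) : PCoh.IsOfFiniteType P X :=
  ⟨X, 𝟙 X, h, inferInstance⟩

lemma ft_of_epi {X Y : C} (f : X ⟶ Y) [Epi f] (h : PCoh.IsOfFiniteType P X) :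
    PCoh.IsOfFiniteType P Y := by
  obtain ⟨E, π, hE, hπ⟩ := h
  exact ⟨E, π ≫ f, hE, epi_comp _ _⟩

lemma ft_of_iso {X Y : C} (e : X ≅ Y) (h : PCoh.IsOfFiniteType P X) :
    PCoh.IsOfFiniteType P Y := ft_of_epi e.hom h

lemma ft_of_isZero [P.IsClosedUnderIsomorphisms] [P.ContainsZero] {X : C} (h : IsZero X) :
    PCoh.IsOfFiniteType P X := ft_of_mem (P.prop_of_isZero h)

/-- Lift an object of finite type along an epimorphism. -/
lemma ft_lift (hql : PCoh.IsQuasiLiftable P) {Z H : C} (p : Z ⟶ H) [Epi p]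
    (h : PCoh.IsOfFiniteType P H) : ∃ (X : C) (γ : X ⟶ Z), P X ∧ Epi (γ ≫ p) := by
  obtain ⟨E, π, hE, hπ⟩ := h
  obtain ⟨X, w, hX, hw⟩ := hql (pullback p π) E (pullback.snd p π) inferInstance hE
  refine ⟨X, w ≫ pullback.fst p π, hX, ?_⟩
  have : (w ≫ pullback.fst p π) ≫ p = (w ≫ pullback.snd p π) ≫ π := by
    simp [pullback.condition]
  rw [this]
  exact epi_comp _ _

lemma mem_biprod [P.IsClosedUnderIsomorphisms] (hsum : ∀ X Y : C, P X → P Y → P (X ⨯ Y))
    {X Y : C} (hX : P X) (hY : P Y) : P (X ⊞ Y) :=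
  P.prop_of_iso (biprod.isoProd X Y).symm (hsum X Y hX hY)

end FT

/-- An `n`-quasi-isomorphism. -/
def NQ {E F : CochainComplex C ℤ} (n : ℤ) (u : E ⟶ F) : Prop :=
  (∀ i : ℤ, n < i → IsIso (HomologicalComplex.homologyMap u i)) ∧
    Epi (HomologicalComplex.homologyMap u n)

/-- Exactness in all degrees `≥ n`. -/
def ExactFrom (n : ℤ) (K : CochainComplex C ℤ) : Prop := ∀ i : ℤ, n ≤ i → K.ExactAt i

lemma NQ.mono {E F : CochainComplex C ℤ} {n m : ℤ} {u : E ⟶ F} (h : NQ n u) (hnm : n ≤ m) :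
    NQ m u := by
  refine ⟨fun i hi => h.1 i (by lia), ?_⟩
  rcases hnm.eq_or_lt with rfl | hlt
  · exact h.2
  · haveI := h.1 m hlt; infer_instance

lemma NQ.comp {E F G : CochainComplex C ℤ} {n : ℤ} {u : E ⟶ F} {w : F ⟶ G} (h : NQ n u)
    (h' : NQ n w) : NQ n (u ≫ w) := by
  refine ⟨fun i hi => ?_, ?_⟩
  · haveI := h.1 i hi; haveI := h'.1 i hi
    rw [HomologicalComplex.homologyMap_comp]; infer_instance
  · haveI := h.2; haveI := h'.2
    rw [HomologicalComplex.homologyMap_comp]; exact epi_comp _ _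

lemma NQ.of_quasiIso {E F : CochainComplex C ℤ} (n : ℤ) (u : E ⟶ F) [QuasiIso u] : NQ n u :=
  ⟨fun _ _ => inferInstance, inferInstance⟩

lemma quasiIso_of_NQ {E F : CochainComplex C ℤ} (u : E ⟶ F) (h : ∀ n : ℤ, NQ n u) :
    QuasiIso u := by
  refine ⟨fun i => ?_⟩
  rw [quasiIsoAt_iff_isIso_homologyMap]
  exact (h (i - 1)).1 i (by lia)

lemma NQ.exactFrom {E F : CochainComplex C ℤ} {n : ℤ} {u : E ⟶ F} (h : NQ n u) :
    ExactFrom n (mappingCone u) := by
  intro j hj
  rw [HomologicalComplex.exactAt_iff_exact_up_to_refinements _ (j - 1) j (j + 1) (by simp) (by simp)]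
  intro A x hx
  have h₁ := congr_arg (· ≫ (mappingCone.fst u).1.v (j + 1) (j + 2) (by lia)) hx
  have h₂ := congr_arg (· ≫ (mappingCone.snd u).v (j + 1) (j + 1) (add_zero _)) hx
  simp [mappingCone.d_fst_v u j (j + 1) (j + 2) rfl (by lia)] at h₁
  simp [mappingCone.d_snd_v u j (j + 1) rfl] at h₂
  obtain ⟨a, ha⟩ : ∃ a, a = x ≫ (mappingCone.fst u).1.v j (j + 1) rfl := ⟨_, rfl⟩
  obtain ⟨b, hb⟩ : ∃ b, b = x ≫ (mappingCone.snd u).v j j (add_zero _) := ⟨_, rfl⟩
  have had : a ≫ E.d (j + 1) (j + 2) = 0 := by simpa [ha] using h₁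
  have hab : a ≫ u.f (j + 1) + b ≫ F.d j (j + 1) = 0 := by simpa [ha, hb] using h₂
  haveI := h.1 (j + 1) (by lia)
  obtain ⟨A₁, π₁, hπ₁, a₁, ha₁⟩ :=
    (HomologicalComplex.mono_homologyMap_iff_up_to_refinements u j (j + 1) (j + 2) (by simp)
      (by simp; lia)).1 inferInstance a had (-b) (by
        rw [Preadditive.neg_comp]; exact eq_neg_of_add_eq_zero_left hab)
  haveI : Epi (HomologicalComplex.homologyMap u j) := (h.mono hj).2
  have hy : (π₁ ≫ b + a₁ ≫ u.f j) ≫ F.d j (j + 1) = 0 := by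
    rw [Preadditive.add_comp, Category.assoc a₁, u.comm, ← Category.assoc a₁, ← ha₁,
      Category.assoc, Category.assoc, ← Preadditive.comp_add, ← add_comm (a ≫ u.f _), hab, comp_zero]
  obtain ⟨A₂, π₂, hπ₂, x₂, hx₂, y₁, hy₁⟩ :=
    (HomologicalComplex.epi_homologyMap_iff_up_to_refinements u (j - 1) j (j + 1) (by simp)
      (by simp)).1 inferInstance _ hy
  refine ⟨A₂, π₂ ≫ π₁, epi_comp _ _, (x₂ - π₂ ≫ a₁) ≫ (mappingCone.inl u).v j (j - 1) (by lia)
    + y₁ ≫ (mappingCone.inr u).f (j - 1), ?_⟩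
  apply mappingCone.ext_to u j (j + 1) rfl
  · simp [mappingCone.d_fst_v u (j - 1) j (j + 1) (by lia) rfl, Preadditive.sub_comp, hx₂,
      ← ha₁, ha]
  · simp only [Category.assoc, mappingCone.d_snd_v u (j - 1) j (by lia)]
    simp only [Preadditive.add_comp, Preadditive.comp_add, Category.assoc,
      mappingCone.inl_v_fst_v_assoc, mappingCone.inl_v_snd_v_assoc, zero_comp, comp_zero,
      mappingCone.inr_f_fst_v_assoc, mappingCone.inr_f_snd_v_assoc, add_zero, zero_add]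
    rw [← hb, Preadditive.sub_comp, Category.assoc]
    rw [Preadditive.comp_add] at hy₁
    calc π₂ ≫ π₁ ≫ b = (π₂ ≫ π₁ ≫ b + π₂ ≫ a₁ ≫ u.f j) - π₂ ≫ a₁ ≫ u.f j := by abel
      _ = _ := by rw [hy₁]; abel

lemma NQ.of_exactFrom {E F : CochainComplex C ℤ} {n : ℤ} {u : E ⟶ F}
    (h : ExactFrom n (mappingCone u)) : NQ n u := by
  have hmono : ∀ j : ℤ, n < j → Mono (HomologicalComplex.homologyMap u j) := by
    intro j hj
    rw [HomologicalComplex.mono_homologyMap_iff_up_to_refinements u (j - 1) j (j + 1) (by simp)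
      (by simp)]
    intro A x₂ hx₂ y hy
    have hc : (x₂ ≫ (mappingCone.inl u).v j (j - 1) (by lia) - y ≫ (mappingCone.inr u).f (j - 1)) ≫
        (mappingCone u).d (j - 1) j = 0 := by
      simp [mappingCone.inl_v_d u j (j - 1) (j + 1) (by lia) (by lia), reassoc_of% hx₂,
        reassoc_of% hy, Preadditive.sub_comp]
    obtain ⟨A', π, hπ, z, hz⟩ := (HomologicalComplex.exactAt_iff_exact_up_to_refinements _
      (j - 2) (j - 1) j (by simp; lia) (by simp)).1 (h (j - 1) (by lia)) _ hc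
    refine ⟨A', π, hπ, -(z ≫ (mappingCone.fst u).1.v (j - 2) (j - 1) (by lia)), ?_⟩
    have := congr_arg (· ≫ (mappingCone.fst u).1.v (j - 1) j (by lia)) hz
    simpa [mappingCone.d_fst_v u (j - 2) (j - 1) j (by lia) (by lia), Preadditive.sub_comp]
      using this
  have hepi : ∀ j : ℤ, n ≤ j → Epi (HomologicalComplex.homologyMap u j) := by
    intro j hj
    rw [HomologicalComplex.epi_homologyMap_iff_up_to_refinements u (j - 1) j (j + 1) (by simp)
      (by simp)]
    intro A y hy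
    have hc : (y ≫ (mappingCone.inr u).f j) ≫ (mappingCone u).d j (j + 1) = 0 := by
      simp [reassoc_of% hy]
    obtain ⟨A', π, hπ, z, hz⟩ := (HomologicalComplex.exactAt_iff_exact_up_to_refinements _
      (j - 1) j (j + 1) (by simp) (by simp)).1 (h j hj) _ hc
    have h₁ := congr_arg (· ≫ (mappingCone.fst u).1.v j (j + 1) rfl) hz
    have h₂ := congr_arg (· ≫ (mappingCone.snd u).v j j (add_zero _)) hz
    simp [mappingCone.d_fst_v u (j - 1) j (j + 1) (by lia) rfl] at h₁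
    simp [mappingCone.d_snd_v u (j - 1) j (by lia)] at h₂
    exact ⟨A', π, hπ, z ≫ (mappingCone.fst u).1.v (j - 1) j (by lia), by simpa using h₁,
      z ≫ (mappingCone.snd u).v (j - 1) (j - 1) (add_zero _), by simpa using h₂⟩
  refine ⟨fun i hi => ?_, hepi n le_rfl⟩
  haveI := hmono i hi
  haveI := hepi i hi.le
  exact isIso_of_mono_of_epi _

lemma NQ_iff_exactFrom {E F : CochainComplex C ℤ} (n : ℤ) (u : E ⟶ F) :
    NQ n u ↔ ExactFrom n (mappingCone u) := ⟨NQ.exactFrom, NQ.of_exactFrom⟩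

section Ext

variable {E F : CochainComplex C ℤ} (u : E ⟶ F) {T : CochainComplex C ℤ}
  (τ : T ⟶ mappingCone u)

/-- The extension of `E` by a complex `T` mapping to the cone of `u`. -/
noncomputable def ext : CochainComplex C ℤ where
  X i := E.X i ⊞ T.X i
  d i j := if h : i + 1 = j then
      biprod.desc (E.d i j ≫ biprod.inl)
        (τ.f i ≫ (mappingCone.fst u).1.v i j h ≫ biprod.inl + T.d i j ≫ biprod.inr)
    else 0
  shape i j h := dif_neg h
  d_comp_d' i j k hij hjk := by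
    rw [dif_pos (show i + 1 = j from hij), dif_pos (show j + 1 = k from hjk)]
    apply biprod.hom_ext'
    · simp
    · simp only [biprod.inr_desc_assoc, comp_zero, Preadditive.add_comp, Category.assoc,
        biprod.inl_desc, biprod.inr_desc, Preadditive.comp_add]
      rw [← τ.comm_assoc, mappingCone.d_fst_v_assoc u i j k hij hjk]
      simp

/-- First injection, degreewise. -/
noncomputable def inlX (i : ℤ) : E.X i ⟶ (ext u τ).X i := biprod.inl
/-- Second injection, degreewise. -/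
noncomputable def inrX (i : ℤ) : T.X i ⟶ (ext u τ).X i := biprod.inr
/-- First projection, degreewise. -/
noncomputable def fstX (i : ℤ) : (ext u τ).X i ⟶ E.X i := biprod.fst
/-- Second projection, degreewise. -/
noncomputable def sndX (i : ℤ) : (ext u τ).X i ⟶ T.X i := biprod.snd

@[reassoc (attr := simp)] lemma inlX_fstX (i : ℤ) : inlX u τ i ≫ fstX u τ i = 𝟙 _ := biprod.inl_fst
@[reassoc (attr := simp)] lemma inlX_sndX (i : ℤ) : inlX u τ i ≫ sndX u τ i = 0 := biprod.inl_snd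
@[reassoc (attr := simp)] lemma inrX_fstX (i : ℤ) : inrX u τ i ≫ fstX u τ i = 0 := biprod.inr_fst
@[reassoc (attr := simp)] lemma inrX_sndX (i : ℤ) : inrX u τ i ≫ sndX u τ i = 𝟙 _ := biprod.inr_snd

lemma ext_hom_from {i : ℤ} {A : C} {f g : (ext u τ).X i ⟶ A}
    (h₁ : inlX u τ i ≫ f = inlX u τ i ≫ g) (h₂ : inrX u τ i ≫ f = inrX u τ i ≫ g) : f = g :=
  biprod.hom_ext' _ _ h₁ h₂

lemma ext_hom_to {i : ℤ} {A : C} {f g : A ⟶ (ext u τ).X i}
    (h₁ : f ≫ fstX u τ i = g ≫ fstX u τ i) (h₂ : f ≫ sndX u τ i = g ≫ sndX u τ i) : f = g :=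
  biprod.hom_ext _ _ h₁ h₂

lemma ext_d (i j : ℤ) (h : i + 1 = j) : (ext u τ).d i j = biprod.desc (E.d i j ≫ biprod.inl)
    (τ.f i ≫ (mappingCone.fst u).1.v i j h ≫ biprod.inl + T.d i j ≫ biprod.inr) := by
  exact dif_pos h

@[reassoc]
lemma inlX_d (i j : ℤ) (h : i + 1 = j) :
    inlX u τ i ≫ (ext u τ).d i j = E.d i j ≫ inlX u τ j := by
  rw [ext_d u τ i j h]; exact biprod.inl_desc _ _

@[reassoc]
lemma inrX_d (i j : ℤ) (h : i + 1 = j) :
    inrX u τ i ≫ (ext u τ).d i j =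
      τ.f i ≫ (mappingCone.fst u).1.v i j h ≫ inlX u τ j + T.d i j ≫ inrX u τ j := by
  rw [ext_d u τ i j h]; exact biprod.inr_desc _ _

@[reassoc]
lemma d_fstX (i j : ℤ) (h : i + 1 = j) : (ext u τ).d i j ≫ fstX u τ j =
    fstX u τ i ≫ E.d i j + sndX u τ i ≫ τ.f i ≫ (mappingCone.fst u).1.v i j h := by
  apply ext_hom_from u τ <;> simp [inlX_d_assoc u τ i j h, inrX_d_assoc u τ i j h]

@[reassoc]
lemma d_sndX (i j : ℤ) (h : i + 1 = j) :
    (ext u τ).d i j ≫ sndX u τ j = sndX u τ i ≫ T.d i j := by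
  apply ext_hom_from u τ <;> simp [inlX_d_assoc u τ i j h, inrX_d_assoc u τ i j h]

/-- The inclusion `E ⟶ ext u τ`. -/
noncomputable def extι : E ⟶ ext u τ where
  f i := inlX u τ i
  comm' i j h := inlX_d u τ i j h

/-- The map `ext u τ ⟶ F`, degreewise. -/
noncomputable def extπX (i : ℤ) : (ext u τ).X i ⟶ F.X i :=
  biprod.desc (u.f i) (-(τ.f i ≫ (mappingCone.snd u).v i i (add_zero i)))

@[reassoc (attr := simp)] lemma inlX_extπX (i : ℤ) : inlX u τ i ≫ extπX u τ i = u.f i :=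
  biprod.inl_desc _ _

@[reassoc (attr := simp)] lemma inrX_extπX (i : ℤ) : inrX u τ i ≫ extπX u τ i =
    -(τ.f i ≫ (mappingCone.snd u).v i i (add_zero i)) :=
  biprod.inr_desc _ _

/-- The map `ext u τ ⟶ F`. -/
noncomputable def extπ : ext u τ ⟶ F where
  f i := extπX u τ i
  comm' i j h := by
    have h : i + 1 = j := h
    apply ext_hom_from u τ
    · rw [inlX_d_assoc u τ i j h]
      simp
    · rw [inrX_d_assoc u τ i j h]
      simp [mappingCone.d_snd_v u i j h, ← τ.comm_assoc]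

@[simp] lemma extι_f (i : ℤ) : (extι u τ).f i = inlX u τ i := rfl

@[reassoc (attr := simp)] lemma inlX_extπ_f (i : ℤ) : inlX u τ i ≫ (extπ u τ).f i = u.f i :=
  inlX_extπX u τ i

@[reassoc (attr := simp)] lemma inrX_extπ_f (i : ℤ) : inrX u τ i ≫ (extπ u τ).f i =
    -(τ.f i ≫ (mappingCone.snd u).v i i (add_zero i)) :=
  inrX_extπX u τ i

lemma extπ_f_eq (i : ℤ) : (extπ u τ).f i = fstX u τ i ≫ u.f i -
    sndX u τ i ≫ τ.f i ≫ (mappingCone.snd u).v i i (add_zero i) := by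
  apply ext_hom_from u τ <;> simp

lemma extι_extπ : extι u τ ≫ extπ u τ = u := by
  ext i; simp

instance mono_extι_f (i : ℤ) : Mono ((extι u τ).f i) :=
  SplitMono.mono ⟨fstX u τ i, inlX_fstX u τ i⟩

lemma isIso_extι_f (i : ℤ) (h : IsZero (T.X i)) : IsIso ((extι u τ).f i) := by
  refine ⟨fstX u τ i, inlX_fstX u τ i, ?_⟩
  apply ext_hom_from u τ
  · simp
  · apply h.eq_of_src

lemma NQ_extπ {m : ℤ} (h : NQ m τ) : NQ m (extπ u τ) := by
  apply NQ.of_exactFrom
  intro j hj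
  rw [HomologicalComplex.exactAt_iff_exact_up_to_refinements _ (j - 1) j (j + 1) (by simp) (by simp)]
  intro A x hx
  have h₁ := congr_arg (· ≫ (mappingCone.fst (extπ u τ)).1.v (j + 1) (j + 2) (by lia)) hx
  have h₂ := congr_arg (· ≫ (mappingCone.snd (extπ u τ)).v (j + 1) (j + 1) (add_zero _)) hx
  simp [mappingCone.d_fst_v (extπ u τ) j (j + 1) (j + 2) rfl (by lia), ] at h₁
  simp [mappingCone.d_snd_v (extπ u τ) j (j + 1) rfl] at h₂
  obtain ⟨p, hp⟩ : ∃ p, p = x ≫ (mappingCone.fst (extπ u τ)).1.v j (j + 1) rfl := ⟨_, rfl⟩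
  obtain ⟨b, hb⟩ : ∃ b, b = x ≫ (mappingCone.snd (extπ u τ)).v j j (add_zero _) := ⟨_, rfl⟩
  obtain ⟨a, ha⟩ : ∃ a, a = p ≫ fstX u τ (j + 1) := ⟨_, rfl⟩
  obtain ⟨t, ht⟩ : ∃ t, t = p ≫ sndX u τ (j + 1) := ⟨_, rfl⟩
  have hpd : p ≫ (ext u τ).d (j + 1) (j + 2) = 0 := by simpa [hp] using h₁
  have hpf : p ≫ (extπ u τ).f (j + 1) + b ≫ F.d j (j + 1) = 0 := by simpa [hp, hb] using h₂
  have ht' : t ≫ T.d (j + 1) (j + 2) = 0 := by
    have := congr_arg (· ≫ sndX u τ (j + 2)) hpd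
    simpa [d_sndX u τ (j + 1) (j + 2) (by lia), ht] using this
  have ha' : a ≫ E.d (j + 1) (j + 2) + t ≫ τ.f (j + 1) ≫
      (mappingCone.fst u).1.v (j + 1) (j + 2) (by lia) = 0 := by
    have := congr_arg (· ≫ fstX u τ (j + 2)) hpd
    simpa [d_fstX u τ (j + 1) (j + 2) (by lia), ha, ht] using this
  have hb' : a ≫ u.f (j + 1) - t ≫ τ.f (j + 1) ≫ (mappingCone.snd u).v (j + 1) (j + 1) (add_zero _)
      + b ≫ F.d j (j + 1) = 0 := by
    rw [extπ_f_eq, Preadditive.comp_sub] at hpf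
    simpa [ha, ht] using hpf
  set c := a ≫ (mappingCone.inl u).v (j + 1) j (by lia) + b ≫ (mappingCone.inr u).f j with hc
  have hτ : t ≫ τ.f (j + 1) = c ≫ (mappingCone u).d j (j + 1) := by
    apply mappingCone.ext_to u (j + 1) (j + 2) (by lia)
    · simp [c, mappingCone.d_fst_v u j (j + 1) (j + 2) rfl (by lia)]
      exact eq_neg_of_add_eq_zero_right ha'
    · simp [c, mappingCone.d_snd_v u j (j + 1) rfl]
      rw [← sub_eq_zero, ← neg_eq_zero]
      convert hb' using 1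
      abel
  haveI := h.1 (j + 1) (by lia)
  obtain ⟨A₁, π₁, hπ₁, s, hs⟩ :=
    (HomologicalComplex.mono_homologyMap_iff_up_to_refinements τ j (j + 1) (j + 2) (by simp)
      (by simp; lia)).1 inferInstance t ht' c hτ
  have hcyc : (π₁ ≫ c - s ≫ τ.f j) ≫ (mappingCone u).d j (j + 1) = 0 := by
    rw [Preadditive.sub_comp, Category.assoc, Category.assoc, ← hτ, τ.comm,
      ← Category.assoc s, ← hs, Category.assoc, sub_self]
  haveI : Epi (HomologicalComplex.homologyMap τ j) := (h.mono hj).2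
  obtain ⟨A₂, π₂, hπ₂, z, hz, w, hw⟩ :=
    (HomologicalComplex.epi_homologyMap_iff_up_to_refinements τ (j - 1) j (j + 1) (by simp)
      (by simp)).1 inferInstance _ hcyc
  set σ := π₂ ≫ s + z with hσ
  have hσd : σ ≫ T.d j (j + 1) = π₂ ≫ π₁ ≫ t := by simp [σ, hz, hs]
  have hw' : π₂ ≫ π₁ ≫ c = σ ≫ τ.f j + w ≫ (mappingCone u).d (j - 1) j := by
    rw [Preadditive.comp_sub, sub_eq_iff_eq_add] at hw
    simp [σ, hw]; abel
  have hw₁ : π₂ ≫ π₁ ≫ a = σ ≫ τ.f j ≫ (mappingCone.fst u).1.v j (j + 1) rfl -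
      w ≫ (mappingCone.fst u).1.v (j - 1) j (by lia) ≫ E.d j (j + 1) := by
    have := congr_arg (· ≫ (mappingCone.fst u).1.v j (j + 1) rfl) hw'
    simpa [c, mappingCone.d_fst_v u (j - 1) j (j + 1) (by lia) rfl, sub_eq_add_neg] using this
  have hw₂ : π₂ ≫ π₁ ≫ b = σ ≫ τ.f j ≫ (mappingCone.snd u).v j j (add_zero _) +
      (w ≫ (mappingCone.fst u).1.v (j - 1) j (by lia) ≫ u.f j +
        w ≫ (mappingCone.snd u).v (j - 1) (j - 1) (add_zero _) ≫ F.d (j - 1) j) := by
    have := congr_arg (· ≫ (mappingCone.snd u).v j j (add_zero _)) hw'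
    simpa [c, mappingCone.d_snd_v u (j - 1) j (by lia)] using this
  set e := w ≫ (mappingCone.fst u).1.v (j - 1) j (by lia) ≫ inlX u τ j - σ ≫ inrX u τ j with he
  set f := w ≫ (mappingCone.snd u).v (j - 1) (j - 1) (add_zero _) with hf
  refine ⟨A₂, π₂ ≫ π₁, epi_comp _ _, e ≫ (mappingCone.inl (extπ u τ)).v j (j - 1) (by lia) +
      f ≫ (mappingCone.inr (extπ u τ)).f (j - 1), ?_⟩
  apply mappingCone.ext_to (extπ u τ) j (j + 1) rfl
  · simp [mappingCone.d_fst_v (extπ u τ) (j - 1) j (j + 1) (by lia) rfl, ← hp]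
    apply ext_hom_to u τ
    · simp [e, d_fstX u τ j (j + 1) rfl, ← ha, hw₁, Preadditive.sub_comp]
    · simp [e, d_sndX u τ j (j + 1) rfl, ← ht, ← hσd, Preadditive.sub_comp]
  · simp [mappingCone.d_snd_v (extπ u τ) (j - 1) j (by lia), ← hb, hw₂, e, f, Preadditive.sub_comp]
    abel

/-- `ext u τ` in a degree where `T` vanishes is `E`. -/
noncomputable def extCokerIso (i : ℤ) : cokernel ((extι u τ).f i) ≅ T.X i :=
  IsColimit.coconePointUniqueUpToIso (cokernelIsCokernel _)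
    (BinaryBicone.isColimitInlCokernelCofork (BinaryBiproduct.isBilimit (E.X i) (T.X i)).isColimit)

end Ext

/-- `single X n ⟶ K` which is epi on `H^n` gives an `n`-quasi-isomorphism when `K` is exact above. -/
lemma NQ_mkHomFromSingle {K : CochainComplex C ℤ} {n : ℤ} {X : C} (γ : X ⟶ K.cycles n)
    [Epi (γ ≫ K.homologyπ n)] (hK : ExactFrom (n + 1) K) :
    NQ n (HomologicalComplex.mkHomFromSingle (c := ComplexShape.up ℤ) (γ ≫ K.iCycles n)
      (fun k _ => by simp)) := by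
  set τ := HomologicalComplex.mkHomFromSingle (c := ComplexShape.up ℤ) (γ ≫ K.iCycles n)
      (fun k _ => by simp) with hτ
  refine ⟨fun i hi => ?_, ?_⟩
  · exact isIso_of_source_target_iso_zero _
      (((HomologicalComplex.exactAt_single_obj _ n X i (by lia)).isZero_homology).isoZero)
      ((hK i (by lia)).isZero_homology.isoZero)
  · have : ((HomologicalComplex.singleObjCyclesSelfIso (ComplexShape.up ℤ) n X).inv ≫
        ((HomologicalComplex.single C (ComplexShape.up ℤ) n).obj X).homologyπ n) ≫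
          HomologicalComplex.homologyMap τ n = γ ≫ K.homologyπ n := by
      rw [Category.assoc, HomologicalComplex.homologyπ_naturality, ← Category.assoc]
      congr 1
      rw [← cancel_mono (K.iCycles n)]
      simp [hτ, HomologicalComplex.singleObjCyclesSelfIso]
    exact epi_of_epi_fac this

end Groth.Agent.PCohLib
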