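import Groth.Agent.PCohLib.NPC
import Mathlib.Algebra.Homology.DerivedCategory.TStructure

/-!
Pseudo-coherence from cohomology objects, via the top truncation triangle.
-/

set_option autoImplicit false
set_option linter.style.haveILetI false
set_option linter.unusedSectionVars false
universe w v u

open CategoryTheory CategoryTheory.Limits CategoryTheory.Pretriangulated

namespace Groth.Agent.PCohLib

variable {C : Type u} [Category.{v} C] [Abelian C] [HasDerivedCategory.{w} C] {P : ObjectProperty C}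
  [P.IsClosedUnderIsomorphisms] [P.ContainsZero]

noncomputable def singleHomologyIso (n : ℤ) (Y : C) :
    (DerivedCategory.homologyFunctor C n).obj ((DerivedCategory.singleFunctor C n).obj Y) ≅ Y :=
  (DerivedCategory.homologyFunctor C n).mapIso ((DerivedCategory.singleFunctorIsoCompQ C n).app Y) ≪≫
    homologyQIso _ n ≪≫ HomologicalComplex.singleObjHomologySelfIso _ n Y

noncomputable def singleShiftIso (m n' n : ℤ) (h : m + n' = n) (Y : C) :
    (shiftFunctor (DerivedCategory C) m).obj ((DerivedCategory.singleFunctor C n).obj Y) ≅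
      (DerivedCategory.singleFunctor C n').obj Y :=
  ((DerivedCategory.singleFunctors C).shiftIso m n' n h).app Y

lemma NPC.single_shift {m : ℤ} {n : ℤ} {Y : C} (h : NPC P m ((DerivedCategory.singleFunctor C n).obj Y))
    (n' m' : ℤ) (hm : m' = m + (n' - n)) : NPC P m' ((DerivedCategory.singleFunctor C n').obj Y) :=
  (h.shift (n - n') m' (by lia)).of_iso (singleShiftIso (n - n') n' n (by lia) Y)

/-- A complex in degrees `< n` is `n`-pseudo-coherent. -/
lemma NPC_of_isLE {n b : ℤ} (X : DerivedCategory C) [X.IsLE b] (hbn : b < n) : NPC P n X := by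
  obtain ⟨K, hK, ⟨e⟩⟩ := X.exists_iso_Q_obj_of_isLE b
  exact NPC.mk ⟨⟨b, fun i hi => K.isZero_of_isStrictlyLE b i hi⟩,
    fun i hi => P.prop_of_isZero (K.isZero_of_isStrictlyLE b i (by lia))⟩ e.symm

/-- The top truncation triangle `τ_{<b} X ⟶ X ⟶ H^b(X)[-b]`. -/
lemma exists_top_triangle (X : DerivedCategory C) (b : ℤ) [X.IsLE b] :
    ∃ (T : Triangle (DerivedCategory C)), T ∈ distinguishedTriangles ∧ T.obj₂ = X ∧
      T.obj₁.IsLE (b - 1) ∧
      (∀ i : ℤ, i < b → Nonempty ((DerivedCategory.homologyFunctor C i).obj T.obj₁ ≅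
        (DerivedCategory.homologyFunctor C i).obj X)) ∧
      Nonempty (T.obj₃ ≅ (DerivedCategory.singleFunctor C b).obj
        ((DerivedCategory.homologyFunctor C b).obj X)) := by
  obtain ⟨X₁, X₃, h₁, h₃, f, g, h, hT⟩ :=
    (DerivedCategory.TStructure.t (C := C)).exists_triangle X (b - 1) b (by lia)
  haveI hX₁ : X₁.IsLE (b - 1) := ⟨h₁⟩
  haveI hX₃ : X₃.IsGE b := ⟨h₃⟩
  have hz₁ : ∀ i, b - 1 < i → IsZero ((DerivedCategory.homologyFunctor C i).obj X₁) :=
    fun i hi => X₁.isZero_of_isLE (b - 1) i hi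
  haveI : X₃.IsLE b := by
    rw [DerivedCategory.isLE_iff]
    intro i hi
    refine (DerivedCategory.HomologySequence.exact₃ _ hT i (i + 1) rfl).isZero_of_both_zeros
      ?_ ?_
    · exact (X.isZero_of_isLE b i hi).eq_of_src _ _
    · exact (hz₁ (i + 1) (by lia)).eq_of_tgt _ _
  have hiso : ∀ i, i < b → IsIso ((DerivedCategory.homologyFunctor C i).map f) := fun i hi => by
    have : Mono ((DerivedCategory.homologyFunctor C i).map f) :=
      (DerivedCategory.HomologySequence.mono_homologyMap_mor₁_iff _ hT (i - 1) i (by lia)).2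
        ((X₃.isZero_of_isGE b (i - 1) (by lia)).eq_of_src _ _)
    have : Epi ((DerivedCategory.homologyFunctor C i).map f) :=
      (DerivedCategory.HomologySequence.epi_homologyMap_mor₁_iff _ hT i).2
        ((X₃.isZero_of_isGE b i hi).eq_of_tgt _ _)
    exact isIso_of_mono_of_epi _
  have : IsIso ((DerivedCategory.homologyFunctor C b).map g) := by
    have : Mono ((DerivedCategory.homologyFunctor C b).map g) :=
      (DerivedCategory.HomologySequence.mono_homologyMap_mor₂_iff _ hT b).2
        ((hz₁ b (by lia)).eq_of_src _ _)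
    have : Epi ((DerivedCategory.homologyFunctor C b).map g) :=
      (DerivedCategory.HomologySequence.epi_homologyMap_mor₂_iff _ hT b (b + 1) rfl).2
        ((hz₁ (b + 1) (by lia)).eq_of_tgt _ _)
    exact isIso_of_mono_of_epi _
  obtain ⟨Y, ⟨e⟩⟩ := X₃.exists_iso_singleFunctor_obj_of_isGE_of_isLE b
  refine ⟨_, hT, rfl, hX₁, fun i hi => ⟨@asIso _ _ _ _ _ (hiso i hi)⟩, ⟨e ≪≫ ?_⟩⟩
  exact (DerivedCategory.singleFunctor C b).mapIso
    ((singleHomologyIso b Y).symm ≪≫ (DerivedCategory.homologyFunctor C b).mapIso e.symm ≪≫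
      (asIso ((DerivedCategory.homologyFunctor C b).map g)).symm)

/-- S5604. -/
lemma NPC_of_homology (hsum : ∀ X Y : C, P X → P Y → P (X ⨯ Y))
    (hqs : PCoh.IsQuasiStableUnderKernels P) (hql : PCoh.IsQuasiLiftable P) (n : ℤ)
    (X : DerivedCategory C) (b : ℤ) [X.IsLE b]
    (hfp : ∀ i : ℤ, n ≤ i → NPC P (n - i) ((DerivedCategory.singleFunctor C 0).obj
      ((DerivedCategory.homologyFunctor C i).obj X))) : NPC P n X := by
  obtain ⟨k, hk⟩ : ∃ k : ℕ, b < n + k := ⟨(b - n + 1).toNat, by lia⟩
  induction k generalizing X b with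
  | zero => exact NPC_of_isLE X (b := b) (by lia)
  | succ k ih =>
    by_cases hbn : b < n
    · exact NPC_of_isLE X hbn
    obtain ⟨T, hT, rfl, hT₁, hlow, ⟨e⟩⟩ := exists_top_triangle X b
    refine NPC.of_triangle₂ hsum hqs hql hT ?_ ?_
    · refine ih T.obj₁ (b - 1) (fun i hi => ?_) (by lia)
      by_cases hib : i < b
      · obtain ⟨e'⟩ := hlow i hib
        exact (hfp i hi).of_iso ((DerivedCategory.singleFunctor C 0).mapIso e'.symm)
      · haveI : ((DerivedCategory.singleFunctor C 0).obj
          ((DerivedCategory.homologyFunctor C i).obj T.obj₁)).IsLE (n - i - 1) := by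
          rw [DerivedCategory.isLE_iff]
          intro j _
          exact Functor.map_isZero _ (Functor.map_isZero _ (T.obj₁.isZero_of_isLE (b - 1) i (by lia)))
        exact NPC_of_isLE _ (b := n - i - 1) (by lia)
    · exact ((hfp b (by lia)).single_shift b n (by lia)).of_iso e.symm

end Groth.Agent.PCohLib
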