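import Groth.Agent.PCohLib.Coh
import Groth.Agent.PCohLib.Trunc
import Mathlib.Algebra.Homology.DerivedCategory.SingleTriangle

/-!
Pseudo-coherence when the objects of `C₀` are coherent.
-/

set_option autoImplicit false
set_option linter.style.haveILetI false
set_option linter.unusedSectionVars false
universe w v u

open CategoryTheory CategoryTheory.Limits CategoryTheory.Pretriangulated

namespace Groth.Agent.PCohLib

variable {C : Type u} [Category.{v} C] [Abelian C] {P : ObjectProperty C}

/-- `P`-coherent: of finite type and precoherent. -/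
def Coh (P : ObjectProperty C) (H : C) : Prop := PCoh.IsOfFiniteType P H ∧ Precoh P H

lemma Coh.of_iso {X Y : C} (e : X ≅ Y) (h : Coh P X) : Coh P Y :=
  ⟨ft_of_iso e h.1, h.2.of_iso e⟩

lemma quasiStable_of_coherent (hcoh : ∀ X : C, P X → Precoh P X) :
    PCoh.IsQuasiStableUnderKernels P := by
  intro K hK _ hP
  have h1 := hK 1
  rw [K.exactAt_iff' 0 1 2 (by simp) (by simp)] at h1
  have h0 := hK 0
  rw [K.exactAt_iff' 0 0 1 (by simp) (by simp),
    ShortComplex.exact_iff_mono _ (K.shape 0 0 (by simp))] at h0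
  exact ft_of_exact_mono (K.sc' 0 1 2) h1 h0 (ft_of_mem (hP 1 le_rfl)) (hcoh _ (hP 2 (by lia)))

variable [P.IsClosedUnderIsomorphisms] (hsum : ∀ X Y : C, P X → P Y → P (X ⨯ Y))
  (hql : PCoh.IsQuasiLiftable P) (hcoh : ∀ X : C, P X → Precoh P X)

include hsum hql hcoh

lemma coh_homology (E : CochainComplex C ℤ) (hE : ∀ i : ℤ, P (E.X i)) (i : ℤ) :
    Coh P (E.homology i) := by
  have h1 : (ShortComplex.mk (E.iCycles i) (E.d i (i + 1)) (E.iCycles_d _ _)).Exact :=
    ShortComplex.exact_of_f_is_kernel _ (E.cyclesIsKernel i (i + 1) (by simp))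
  have hZ : Coh P (E.cycles i) :=
    ⟨ft_of_exact_mono _ h1 (show Mono (E.iCycles i) by infer_instance) (ft_of_mem (hE i))
      (hcoh _ (hE _)), (hcoh _ (hE i)).of_mono (E.iCycles i)⟩
  exact ⟨ft_of_epi (E.homologyπ i) hZ.1, Precoh.of_exact_epi hsum hql
    (ShortComplex.mk (E.toCycles (i - 1) i) (E.homologyπ i) (E.toCycles_comp_homologyπ _ _))
    (ShortComplex.exact_of_g_is_cokernel _ (E.homologyIsCokernel (i - 1) i (by simp)))
    (show Epi (E.homologyπ i) by infer_instance) (ft_of_mem (hE _)) hZ.2⟩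

variable [HasDerivedCategory.{w} C] [P.ContainsZero]

lemma NPC_single_of_ft {H : C} (h : PCoh.IsOfFiniteType P H) :
    NPC P 0 ((DerivedCategory.singleFunctor C 0).obj H) :=
  (NPC_iff_ft_homology hsum (quasiStable_of_coherent hcoh) hql 0 _
    (fun i hi => DerivedCategory.isZero_of_isLE _ 0 i hi)).2 (ft_of_iso (singleHomologyIso 0 H).symm h)

lemma NPC_single_of_coh {H : C} (h : Coh P H) (m : ℤ) :
    NPC P m ((DerivedCategory.singleFunctor C 0).obj H) := by
  suffices ∀ (k : ℕ) (H : C), Coh P H →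
      NPC P (-(k : ℤ)) ((DerivedCategory.singleFunctor C 0).obj H) from
    (this (-m).toNat H h).mono (by lia)
  intro k
  induction k with
  | zero => exact fun H hH => (NPC_single_of_ft hsum hql hcoh hH.1).mono (by simp)
  | succ k ih =>
    intro H hH
    obtain ⟨X, π, hX, hπ⟩ := hH.1
    let S := ShortComplex.mk (kernel.ι π) π (kernel.condition π)
    have hS : S.ShortExact :=
      { exact := ShortComplex.exact_of_f_is_kernel S (kernelIsKernel π) }
    have hR : Coh P (kernel π) := ⟨hH.2 X π hX, (hcoh X hX).of_mono (kernel.ι π)⟩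
    refine NPC.of_triangle₃ hsum (quasiStable_of_coherent hcoh) hql hS.singleTriangle_distinguished
      ((ih _ hR).mono (by lia)) ?_
    refine NPC.mk (E := (HomologicalComplex.single C (ComplexShape.up ℤ) 0).obj X)
      ⟨⟨0, fun i hi => HomologicalComplex.isZero_single_obj_X _ _ _ _ (by lia)⟩, fun i _ => ?_⟩
      ((DerivedCategory.singleFunctorIsoCompQ C 0).app X).symm
    by_cases hi : i = 0
    · subst hi
      exact P.prop_of_iso (HomologicalComplex.singleObjXSelf (ComplexShape.up ℤ) 0 X).symm hX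
    · exact P.prop_of_isZero (HomologicalComplex.isZero_single_obj_X _ _ _ _ hi)

lemma NPC_iff_coh (n : ℤ) (F : DerivedCategory C) (b : ℤ) [F.IsLE b] :
    NPC P n F ↔ PCoh.IsOfFiniteType P ((DerivedCategory.homologyFunctor C n).obj F) ∧
      ∀ i : ℤ, n < i → Coh P ((DerivedCategory.homologyFunctor C i).obj F) := by
  constructor
  · intro h
    obtain ⟨E, a, c, α, -, hP, hiso, hepi⟩ :=
      (NPC_iff_nIso hsum (quasiStable_of_coherent hcoh) hql n F).1 h
    exact ⟨ft_of_epi ((homologyQIso E n).inv ≫ (DerivedCategory.homologyFunctor C n).map α)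
      (coh_homology hsum hql hcoh E hP n).1, fun i hi =>
      (coh_homology hsum hql hcoh E hP i).of_iso ((homologyQIso E i).symm ≪≫
        @asIso _ _ _ _ _ (hiso i hi))⟩
  · rintro ⟨h₁, h₂⟩
    refine NPC_of_homology hsum (quasiStable_of_coherent hcoh) hql n F b fun i hi => ?_
    rcases hi.eq_or_lt with rfl | hi
    · exact (NPC_single_of_ft hsum hql hcoh h₁).mono (by lia)
    · exact NPC_single_of_coh hsum hql hcoh (h₂ i hi) _

end Groth.Agent.PCohLib
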