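import Groth.Agent.PCohLib.Trunc
import Mathlib.Algebra.Homology.HomologicalComplexLimits
import Mathlib.Algebra.Homology.Embedding.ExtendHomology

/-!
Pseudo-coherence from the terms of a complex, via one-term stupid truncations.
-/

set_option autoImplicit false
set_option linter.style.haveILetI false
set_option linter.unusedSectionVars false
universe w v u

open CategoryTheory CategoryTheory.Limits CategoryTheory.Pretriangulated

namespace Groth.Agent.PCohLib

variable {C : Type u} [Category.{v} C] [Abelian C]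

/-- Split off the top term: `0 → F^b[-b] → F → F' → 0`. -/
lemma exists_ses_top (F : CochainComplex C ℤ) (b : ℤ) (hb : IsZero (F.X (b + 1))) :
    ∃ S : ShortComplex (CochainComplex C ℤ), S.ShortExact ∧
      S.X₁ = (HomologicalComplex.single C (ComplexShape.up ℤ) b).obj (F.X b) ∧ S.X₂ = F ∧
      IsZero (S.X₃.X b) ∧ ∀ i : ℤ, i ≠ b → Nonempty (F.X i ≅ S.X₃.X i) := by
  let f : (HomologicalComplex.single C (ComplexShape.up ℤ) b).obj (F.X b) ⟶ F :=
    HomologicalComplex.mkHomFromSingle (𝟙 _) (fun k hk => by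
      obtain rfl : b + 1 = k := hk
      exact hb.eq_of_tgt _ _)
  haveI : ∀ i, Mono (f.f i) := fun i => by
    by_cases h : i = b
    · subst h
      rw [HomologicalComplex.mkHomFromSingle_f]
      infer_instance
    · exact (HomologicalComplex.isZero_single_obj_X _ _ _ _ h).mono _
  haveI : Mono f := HomologicalComplex.mono_of_mono_f f inferInstance
  let S := ShortComplex.mk f (cokernel.π f) (cokernel.condition f)
  have hS : S.ShortExact :=
    { exact := ShortComplex.exact_of_g_is_cokernel S (cokernelIsCokernel f) }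
  have h : ∀ i, (S.map (HomologicalComplex.eval C (ComplexShape.up ℤ) i)).ShortExact :=
    fun i => hS.map_of_exact _
  refine ⟨S, hS, rfl, rfl, ?_, fun i hi => ?_⟩
  · refine (h b).isIso_f_iff.1 ?_
    show IsIso (f.f b)
    rw [HomologicalComplex.mkHomFromSingle_f]
    infer_instance
  · have h' : IsIso (S.map (HomologicalComplex.eval C (ComplexShape.up ℤ) i)).g :=
      (h i).isIso_g_iff.2 (HomologicalComplex.isZero_single_obj_X (ComplexShape.up ℤ) _ _ _ hi)
    exact ⟨@asIso _ _ _ _ _ h'⟩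

/-- Split off the bottom term: `0 → F' → F → F^a[-a] → 0`. -/
lemma exists_ses_bot (F : CochainComplex C ℤ) (a : ℤ) (ha : IsZero (F.X (a - 1))) :
    ∃ S : ShortComplex (CochainComplex C ℤ), S.ShortExact ∧
      S.X₃ = (HomologicalComplex.single C (ComplexShape.up ℤ) a).obj (F.X a) ∧ S.X₂ = F ∧
      IsZero (S.X₁.X a) ∧ ∀ i : ℤ, i ≠ a → Nonempty (S.X₁.X i ≅ F.X i) := by
  let g : F ⟶ (HomologicalComplex.single C (ComplexShape.up ℤ) a).obj (F.X a) :=
    HomologicalComplex.mkHomToSingle (𝟙 _) (fun k hk => by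
      have hk' : k + 1 = a := hk
      obtain rfl : k = a - 1 := by lia
      exact ha.eq_of_src _ _)
  haveI : ∀ i, Epi (g.f i) := fun i => by
    by_cases h : i = a
    · subst h
      rw [HomologicalComplex.mkHomToSingle_f]
      infer_instance
    · exact (HomologicalComplex.isZero_single_obj_X _ _ _ _ h).epi _
  haveI : Epi g := HomologicalComplex.epi_of_epi_f g inferInstance
  let S := ShortComplex.mk (kernel.ι g) g (kernel.condition g)
  have hS : S.ShortExact :=
    { exact := ShortComplex.exact_of_f_is_kernel S (kernelIsKernel g) }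
  have h : ∀ i, (S.map (HomologicalComplex.eval C (ComplexShape.up ℤ) i)).ShortExact :=
    fun i => hS.map_of_exact _
  refine ⟨S, hS, rfl, rfl, ?_, fun i hi => ?_⟩
  · refine (h a).isIso_g_iff.1 ?_
    show IsIso (g.f a)
    rw [HomologicalComplex.mkHomToSingle_f]
    infer_instance
  · have h' : IsIso (S.map (HomologicalComplex.eval C (ComplexShape.up ℤ) i)).f :=
      (h i).isIso_f_iff.2 (HomologicalComplex.isZero_single_obj_X (ComplexShape.up ℤ) _ _ _ hi)
    exact ⟨@asIso _ _ _ _ _ h'⟩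

variable [HasDerivedCategory.{w} C] {P : ObjectProperty C}
  [P.IsClosedUnderIsomorphisms] [P.ContainsZero]

noncomputable def singleQIso (b : ℤ) (Y : C) :
    DerivedCategory.Q.obj ((HomologicalComplex.single C (ComplexShape.up ℤ) b).obj Y) ≅
      (DerivedCategory.singleFunctor C b).obj Y :=
  ((DerivedCategory.singleFunctorIsoCompQ C b).app Y).symm

/-- S5619. -/
lemma NPC_of_terms (hsum : ∀ X Y : C, P X → P Y → P (X ⨯ Y))
    (hqs : PCoh.IsQuasiStableUnderKernels P) (hql : PCoh.IsQuasiLiftable P) (n : ℤ)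
    (F : CochainComplex C ℤ) (b : ℤ) (hb : ∀ i : ℤ, b < i → IsZero (F.X i))
    (hfp : ∀ i : ℤ, n ≤ i → NPC P (n - i) ((DerivedCategory.singleFunctor C 0).obj (F.X i))) :
    NPC P n (DerivedCategory.Q.obj F) := by
  obtain ⟨k, hk⟩ : ∃ k : ℕ, b < n + k := ⟨(b - n + 1).toNat, by lia⟩
  induction k generalizing F b with
  | zero =>
    exact NPC.mk ⟨⟨b, hb⟩, fun i hi => P.prop_of_isZero (hb i (by lia))⟩ (Iso.refl _)
  | succ k ih =>
    by_cases hbn : b < n
    · exact NPC.mk ⟨⟨b, hb⟩, fun i hi => P.prop_of_isZero (hb i (by lia))⟩ (Iso.refl _)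
    obtain ⟨S, hS, h₁, rfl, hz, hiso⟩ := exists_ses_top F b (hb _ (by lia))
    refine NPC.of_triangle₂ hsum hqs hql (DerivedCategory.triangleOfSES_distinguished hS) ?_ ?_
    · exact ((hfp b (by lia)).single_shift b n (by lia)).of_iso
        ((singleQIso b _).symm ≪≫ eqToIso (by rw [← h₁]; rfl))
    · have hz' : ∀ i : ℤ, b - 1 < i → IsZero (S.X₃.X i) := fun i hi => by
        by_cases hib : i = b
        · exact hib ▸ hz
        · obtain ⟨e⟩ := hiso i hib
          exact (hb i (by lia)).of_iso e.symm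
      refine ih S.X₃ (b - 1) hz' (fun i hi => ?_) (by lia)
      by_cases hib : i = b
      · exact NPC.mono (n := n - i) (by
          haveI : ((DerivedCategory.singleFunctor C 0).obj (S.X₃.X i)).IsLE (n - i - 1) := by
            rw [DerivedCategory.isLE_iff]
            intro j _
            exact Functor.map_isZero _ (Functor.map_isZero _ (hz' i (by lia)))
          exact NPC_of_isLE _ (b := n - i - 1) (by lia)) le_rfl
      · obtain ⟨e⟩ := hiso i hib
        exact (hfp i hi).of_iso ((DerivedCategory.singleFunctor C 0).mapIso e)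

section Larger

variable {P₁ : ObjectProperty C} [P₁.IsClosedUnderIsomorphisms] [P₁.ContainsZero]
  (hsum : ∀ X Y : C, P X → P Y → P (X ⨯ Y))
  (hqs : PCoh.IsQuasiStableUnderKernels P) (hql : PCoh.IsQuasiLiftable P)
  (hpc : ∀ X : C, P₁ X → PCoh.IsPC P ((DerivedCategory.singleFunctor C 0).obj X))

include hsum hqs hql

lemma ft_of_NPC_single {Y : C} (h : NPC P 0 ((DerivedCategory.singleFunctor C 0).obj Y)) :
    PCoh.IsOfFiniteType P Y :=
  ft_of_iso (singleHomologyIso 0 Y) ((NPC_iff_ft_homology hsum hqs hql 0 _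
    (fun i hi => DerivedCategory.isZero_of_isLE _ 0 i hi)).1 h)

include hpc

lemma NPC_of_strict_larger {n : ℤ} {E : CochainComplex C ℤ} (hE : PCoh.IsStrictPC P₁ n E) :
    NPC P n (DerivedCategory.Q.obj E) := by
  obtain ⟨⟨b, hb⟩, hP⟩ := hE
  exact NPC_of_terms hsum hqs hql n E b hb fun i hi => hpc _ (hP i hi) (n - i)

lemma quasiStable_larger (hle : ∀ X : C, P X → P₁ X) :
    PCoh.IsQuasiStableUnderKernels P₁ := by
  intro K hK ⟨N, hN⟩ hP
  let L := K.extend ComplexShape.embeddingUpNat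
  have hz : ∀ i : ℤ, i < 0 → IsZero (L.X i) := fun i hi =>
    K.isZero_extend_X _ i (fun j => by simp; lia)
  have hL : ∀ i : ℤ, L.ExactAt i := fun i => by
    by_cases h : 0 ≤ i
    · obtain ⟨j, rfl⟩ : ∃ j : ℕ, (j : ℤ) = i := ⟨i.toNat, by lia⟩
      exact (HomologicalComplex.extend_exactAt_iff K ComplexShape.embeddingUpNat
        (j := j) rfl).2 (hK j)
    · exact ShortComplex.exact_of_isZero_X₂ _ (hz i (by lia))
  obtain ⟨S, hS, h₃, rfl', hz₁, hiso⟩ := exists_ses_bot L 0 (hz _ (by lia))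
  have hX₁ : NPC P 1 (DerivedCategory.Q.obj S.X₁) := by
    refine NPC_of_strict_larger hsum hqs hql hpc ⟨⟨N, fun i hi => ?_⟩, fun i hi => ?_⟩
    · obtain ⟨e⟩ := hiso i (by lia)
      obtain ⟨j, rfl⟩ : ∃ j : ℕ, (j : ℤ) = i := ⟨i.toNat, by lia⟩
      exact (hN j (by lia)).of_iso (e ≪≫ K.extendXIso ComplexShape.embeddingUpNat rfl)
    · obtain ⟨e⟩ := hiso i (by lia)
      obtain ⟨j, rfl⟩ : ∃ j : ℕ, (j : ℤ) = i := ⟨i.toNat, by lia⟩
      exact P₁.prop_of_iso (e ≪≫ K.extendXIso ComplexShape.embeddingUpNat rfl).symm (hP j (by lia))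
  have hX₂ : NPC P 0 (DerivedCategory.Q.obj S.X₂) := by
    haveI : (DerivedCategory.Q.obj S.X₂).IsLE (-1) := by
      rw [DerivedCategory.isLE_iff]
      intro i _
      rw [rfl']
      exact (hL i).isZero_homology.of_iso (homologyQIso L i)
    exact NPC_of_isLE _ (b := -1) (by lia)
  have h0 := NPC.of_triangle₃ hsum hqs hql (DerivedCategory.triangleOfSES_distinguished hS)
    (n := 0) hX₁ hX₂
  obtain ⟨E, π, hE, hπ⟩ := ft_of_NPC_single hsum hqs hql
    (h0.of_iso (eqToIso (by rw [← h₃]; rfl) ≪≫ singleQIso 0 (L.X 0)))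
  have e : L.X 0 ≅ K.X 0 := K.extendXIso ComplexShape.embeddingUpNat (i := 0) rfl
  exact ⟨E, π ≫ e.hom, hle _ hE, epi_comp _ _⟩

lemma quasiLiftable_larger (hle : ∀ X : C, P X → P₁ X) : PCoh.IsQuasiLiftable P₁ := by
  intro E F u hu hF
  obtain ⟨X, γ, hX, hγ⟩ := ft_lift hql u (ft_of_NPC_single hsum hqs hql (hpc F hF 0))
  exact ⟨X, γ, hle _ hX, hγ⟩

end Larger

end Groth.Agent.PCohLib
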