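import Groth.Agent.PCohLib.Biprod
import Mathlib.Algebra.Homology.DerivedCategory.KProjective
import Mathlib.Algebra.Homology.HomologicalComplexBiprod

/-!
Perfect complexes relative to a liftable subcategory stable under kernels of epimorphisms.
-/

set_option autoImplicit false
set_option linter.style.haveILetI false
set_option linter.unusedSectionVars false
universe w v u

open CategoryTheory CategoryTheory.Limits CategoryTheory.Pretriangulated
open CochainComplex (mappingCone)

namespace Groth.Agent.PCohLib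

variable {C : Type u} [Category.{v} C] [Abelian C] {P : ObjectProperty C}
  [P.IsClosedUnderIsomorphisms] [P.ContainsZero]
  (hlift : ∀ (E F : C) (u : E ⟶ F), Epi u → P F → IsSplitEpi u)
  (hst : ∀ (E F : C) (u : E ⟶ F), Epi u → P E → P F → P (kernel u))

include hlift

lemma projective_of_liftable {X : C} (hX : P X) : Projective X where
  factors {E Y} f e := by
    intro
    haveI := hlift _ _ (pullback.snd e f) inferInstance hX
    exact ⟨section_ (pullback.snd e f) ≫ pullback.fst e f, by simp [pullback.condition]⟩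

lemma quasiLiftable_of_liftable : PCoh.IsQuasiLiftable P := by
  intro E F u hu hF
  haveI := hlift E F u hu hF
  exact ⟨F, section_ u, hF, by rw [IsSplitEpi.id]; infer_instance⟩

lemma isKProjective_of_mem (E : CochainComplex C ℤ) (hE : ∀ i, P (E.X i)) (b : ℤ)
    (hb : ∀ i, b < i → IsZero (E.X i)) : E.IsKProjective := by
  haveI : E.IsStrictlyLE b := (CochainComplex.isStrictlyLE_iff _ _).2 hb
  haveI : ∀ i, Projective (E.X i) := fun i => projective_of_liftable hlift (hE i)
  exact CochainComplex.isKProjective_of_projective E b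

lemma exists_Q_map_eq [HasDerivedCategory.{w} C] (E : CochainComplex C ℤ) (hE : ∀ i, P (E.X i))
    (b : ℤ) (hb : ∀ i, b < i → IsZero (E.X i)) (F : CochainComplex C ℤ)
    (α : DerivedCategory.Q.obj E ⟶ DerivedCategory.Q.obj F) :
    ∃ f : E ⟶ F, DerivedCategory.Q.map f = α := by
  haveI := isKProjective_of_mem hlift E hE b hb
  obtain ⟨g, hg⟩ := (CochainComplex.IsKProjective.Qh_map_bijective E _).surjective
    ((DerivedCategory.quotientCompQhIso C).hom.app E ≫ α ≫
      (DerivedCategory.quotientCompQhIso C).inv.app F)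
  obtain ⟨f, rfl⟩ := (HomotopyCategory.quotient _ _).map_surjective g
  refine ⟨f, ?_⟩
  rw [← cancel_epi ((DerivedCategory.quotientCompQhIso C).hom.app E)]
  refine ((DerivedCategory.quotientCompQhIso C).hom.naturality f).symm.trans ?_
  rw [Functor.comp_map, hg]
  simp

omit hlift
include hst

lemma cycles_mem (G : CochainComplex C ℤ) (b c : ℤ) (hb : ∀ i, b < i → IsZero (G.X i))
    (hP : ∀ i, c ≤ i → P (G.X i)) (hex : ∀ i, c < i → G.ExactAt i) : P (G.cycles c) := by
  obtain ⟨k, hk⟩ : ∃ k : ℕ, b < c + k := ⟨(b - c + 1).toNat, by lia⟩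
  induction k generalizing c with
  | zero => exact P.prop_of_isZero (IsZero.of_mono (G.iCycles c) (hb c (by lia)))
  | succ k ih =>
    have hZ := ih (c + 1) (fun i hi => hP i (by lia)) (fun i hi => hex i (by lia)) (by lia)
    have : Epi (G.toCycles c (c + 1)) := by
      have h := ShortComplex.exact_of_g_is_cokernel
        (ShortComplex.mk _ _ (G.toCycles_comp_homologyπ c (c + 1)))
        (G.homologyIsCokernel c (c + 1) (by simp))
      rw [ShortComplex.exact_iff_epi _ ((hex (c + 1) (by lia)).isZero_homology.eq_of_tgt _ _)] at h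
      exact h
    refine P.prop_of_iso ((kernelCompMono (G.toCycles c (c + 1)) (G.iCycles (c + 1))).symm ≪≫
      ?_) (hst _ _ _ this (hP c le_rfl) hZ)
    exact kernelIsoOfEq (G.toCycles_i c (c + 1)) ≪≫
      IsLimit.conePointUniqueUpToIso (limit.isLimit _)
        (G.cyclesIsKernel c (c + 1) (by simp))

lemma quasiStable_of_stable : PCoh.IsQuasiStableUnderKernels P := by
  intro K hK ⟨N, hN⟩ hP
  let L := K.extend ComplexShape.embeddingUpNat
  have hz : ∀ i : ℤ, i < 0 → IsZero (L.X i) := fun i hi =>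
    K.isZero_extend_X _ i (fun j => by simp; lia)
  have hL : ∀ i : ℤ, L.ExactAt i := fun i => by
    by_cases h : 0 ≤ i
    · obtain ⟨j, rfl⟩ : ∃ j : ℕ, (j : ℤ) = i := ⟨i.toNat, by lia⟩
      exact (HomologicalComplex.extend_exactAt_iff K ComplexShape.embeddingUpNat
        (j := j) rfl).2 (hK j)
    · exact ShortComplex.exact_of_isZero_X₂ _ (hz i (by lia))
  have hb : ∀ i : ℤ, (N : ℤ) < i → IsZero (L.X i) := fun i hi => by
    obtain ⟨j, rfl⟩ : ∃ j : ℕ, (j : ℤ) = i := ⟨i.toNat, by lia⟩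
    exact (hN j (by lia)).of_iso (K.extendXIso ComplexShape.embeddingUpNat rfl)
  have h1 : P (L.cycles 1) := cycles_mem hst L N 1 hb (fun i hi => by
    obtain ⟨j, rfl⟩ : ∃ j : ℕ, (j : ℤ) = i := ⟨i.toNat, by lia⟩
    exact P.prop_of_iso (K.extendXIso ComplexShape.embeddingUpNat rfl).symm (hP j (by lia)))
    (fun i _ => hL i)
  have : IsIso (L.toCycles 0 1) := by
    have h := ShortComplex.exact_of_g_is_cokernel
      (ShortComplex.mk _ _ (L.toCycles_comp_homologyπ 0 1)) (L.homologyIsCokernel 0 1 (by simp))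
    rw [ShortComplex.exact_iff_epi _ ((hL 1).isZero_homology.eq_of_tgt _ _)] at h
    haveI : Mono (L.d 0 1) := by
      have h0 := hL 0
      rw [L.exactAt_iff' (-1) 0 1 (by simp) (by simp),
        ShortComplex.exact_iff_mono _ ((hz (-1) (by lia)).eq_of_src _ _)] at h0
      exact h0
    haveI : Mono (L.toCycles 0 1) := mono_of_mono_fac (L.toCycles_i 0 1)
    haveI : Epi (L.toCycles 0 1) := h
    exact isIso_of_mono_of_epi _
  have e : L.X 0 ≅ K.X 0 := K.extendXIso ComplexShape.embeddingUpNat (i := 0) rfl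
  exact ft_of_mem (P.prop_of_iso ((asIso (L.toCycles 0 1)).symm ≪≫ e) h1)

variable (hsum : ∀ X Y : C, P X → P Y → P (X ⨯ Y))

include hlift hsum

omit hlift in
lemma mem_mappingCone {E F : CochainComplex C ℤ} (f : E ⟶ F) (i : ℤ) (hE : P (E.X (i + 1)))
    (hF : P (F.X i)) : P ((mappingCone f).X i) :=
  P.prop_of_iso (HomologicalComplex.homotopyCofiber.XIsoBiprod f i (i + 1) rfl).symm
    (mem_biprod hsum hE hF)

variable [HasDerivedCategory.{w} C]

omit hlift hst hsum in
/-- `Q` commutes with biproducts. -/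
lemma Q_biprod (E E' : CochainComplex C ℤ) :
    Nonempty (DerivedCategory.Q.obj (E ⊞ E') ≅ DerivedCategory.Q.obj E ⊞ DerivedCategory.Q.obj E') :=
  haveI : PreservesBinaryBiproducts (DerivedCategory.Q (C := C)) :=
    preservesBinaryBiproducts_of_preservesBiproducts _
  ⟨DerivedCategory.Q.mapBiprod E E'⟩

lemma perfect_triangle₃ {T : Triangle (DerivedCategory C)} (hT : T ∈ distinguishedTriangles)
    {E F : CochainComplex C ℤ} {a b a' b' : ℤ} (hE : ∀ i, P (E.X i))
    (hzE : ∀ i : ℤ, i < a ∨ b < i → IsZero (E.X i)) (hF : ∀ i, P (F.X i))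
    (hzF : ∀ i : ℤ, i < a' ∨ b' < i → IsZero (F.X i))
    (e : DerivedCategory.Q.obj E ≅ T.obj₁) (f : DerivedCategory.Q.obj F ≅ T.obj₂) :
    ∃ (G : CochainComplex C ℤ) (c d : ℤ), (∀ i : ℤ, i < c ∨ d < i → IsZero (G.X i)) ∧
      (∀ i : ℤ, P (G.X i)) ∧ Nonempty (DerivedCategory.Q.obj G ≅ T.obj₃) := by
  obtain ⟨g, hg⟩ := exists_Q_map_eq hlift E hE b (fun i hi => hzE i (Or.inr hi)) F
    (e.hom ≫ T.mor₁ ≫ f.inv)
  refine ⟨mappingCone g, min (a - 1) a', max b b', fun i hi => ?_,
    fun i => mem_mappingCone hst hsum g i (hE _) (hF _), ⟨Triangle.π₃.mapIso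
      (isoTriangleOfIso₁₂ _ T (DerivedCategory.mappingCone_triangle_distinguished g) hT e f ?_)⟩⟩
  · rw [CochainComplex.mappingCone.isZero_X_iff]
    exact ⟨hzE _ (by lia), hzF _ (by lia)⟩
  · change DerivedCategory.Q.map g ≫ f.hom = _
    rw [hg]; simp; rfl

/-- S5621. -/
lemma mem_bottom (a b : ℤ) (F : CochainComplex C ℤ) (hvan : ∀ i : ℤ, i < a → IsZero (F.X i))
    (hb : ∀ i : ℤ, b < i → IsZero (F.X i))
    (hP : ∀ i : ℤ, a < i → P (F.X i)) (E : CochainComplex C ℤ) (hE : ∀ i : ℤ, P (E.X i))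
    (hzE : ∀ i : ℤ, i < a ∨ b < i → IsZero (E.X i))
    (e : DerivedCategory.Q.obj E ≅ DerivedCategory.Q.obj F) : P (F.X a) := by
  obtain ⟨f, hf⟩ := exists_Q_map_eq hlift E hE b (fun i hi => hzE i (Or.inr hi)) F e.hom
  haveI : QuasiIso f := by
    rw [← DerivedCategory.isIso_Q_map_iff_quasiIso, hf]; infer_instance
  have hex : ∀ i, (mappingCone f).ExactAt i := fun i => (NQ.of_quasiIso i f).exactFrom i le_rfl
  have hG : ∀ i, b < i → IsZero ((mappingCone f).X i) := fun i hi => by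
    rw [CochainComplex.mappingCone.isZero_X_iff]
    exact ⟨hzE _ (Or.inr (by lia)), hb i hi⟩
  let G := mappingCone f
  have hZ : P (G.cycles (a + 1)) := cycles_mem hst G b (a + 1) hG
    (fun i hi => mem_mappingCone hst hsum f i (hE _) (hP i (by lia))) (fun i _ => hex i)
  have hep : Epi (G.toCycles a (a + 1)) := by
    have h := ShortComplex.exact_of_g_is_cokernel
      (ShortComplex.mk _ _ (G.toCycles_comp_homologyπ a (a + 1)))
      (G.homologyIsCokernel a (a + 1) (by simp))
    rw [ShortComplex.exact_iff_epi _ ((hex (a + 1)).isZero_homology.eq_of_tgt _ _)] at h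
    exact h
  have hker : P (G.cycles a) := by
    have hm : Mono (G.d (a - 1) a) := by
      have h0 := hex (a - 1)
      rw [HomologicalComplex.exactAt_iff' _ (a - 2) (a - 1) a (by simp; lia) (by simp),
        ShortComplex.exact_iff_mono _ (IsZero.eq_of_src (by
          change IsZero ((mappingCone f).X (a - 2))
          rw [CochainComplex.mappingCone.isZero_X_iff]
          exact ⟨hzE _ (Or.inl (by lia)), hvan _ (by lia)⟩) _ _)] at h0
      exact h0
    have h := ShortComplex.exact_of_g_is_cokernel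
      (ShortComplex.mk _ _ (G.toCycles_comp_homologyπ (a - 1) a))
      (G.homologyIsCokernel (a - 1) a (by simp))
    rw [ShortComplex.exact_iff_epi _ ((hex a).isZero_homology.eq_of_tgt _ _)] at h
    haveI : Mono (G.toCycles (a - 1) a) := mono_of_mono_fac (G.toCycles_i (a - 1) a)
    haveI : Epi (G.toCycles (a - 1) a) := h
    haveI := isIso_of_mono_of_epi (G.toCycles (a - 1) a)
    exact P.prop_of_iso (asIso (G.toCycles (a - 1) a))
      (mem_mappingCone hst hsum f (a - 1) (hE _) (P.prop_of_isZero (hvan _ (by lia))))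
  haveI := hlift _ _ (G.toCycles a (a + 1)) hep hZ
  have hker' : P (kernel (G.toCycles a (a + 1))) :=
    P.prop_of_iso ((kernelCompMono (G.toCycles a (a + 1)) (G.iCycles (a + 1))).symm ≪≫
      kernelIsoOfEq (G.toCycles_i a (a + 1)) ≪≫
      IsLimit.conePointUniqueUpToIso (limit.isLimit _)
        (G.cyclesIsKernel a (a + 1) (by simp))).symm hker
  have hGa : P (G.X a) := by
    let S := ShortComplex.mk (kernel.ι (G.toCycles a (a + 1))) (G.toCycles a (a + 1))
      (kernel.condition _)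
    have hS : S.ShortExact :=
      { exact := ShortComplex.exact_of_f_is_kernel S (kernelIsKernel _) }
    exact P.prop_of_iso (ShortComplex.Splitting.isoBinaryBiproduct (S := S)
      (ShortComplex.Splitting.ofExactOfSection S hS.exact (section_ (G.toCycles a (a + 1)))
        (IsSplitEpi.id _) hS.mono_f)).symm (mem_biprod hsum hker' hZ)
  let p : E.X (a + 1) ⊞ F.X a ⟶ E.X (a + 1) := biprod.fst
  exact P.prop_of_iso (kernelBiprodFstIso)
    (hst _ _ p inferInstance
      (P.prop_of_iso (HomologicalComplex.homotopyCofiber.XIsoBiprod f a (a + 1) rfl) hGa) (hE _))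

/-- S5610. -/
lemma exists_truncLE_rep (a b c : ℤ) (hab : a ≤ b) (F : CochainComplex C ℤ)
    (hP : ∀ i : ℤ, P (F.X i)) (hvan : ∀ i : ℤ, i < a ∨ c < i → IsZero (F.X i))
    (hcoh : ∀ i : ℤ, b < i → IsZero (F.homology i)) :
    ∃ F' : CochainComplex C ℤ, (∀ i : ℤ, P (F'.X i)) ∧
      (∀ i : ℤ, i < a ∨ min b c < i → IsZero (F'.X i)) ∧
      Nonempty (DerivedCategory.Q.obj F' ≅ DerivedCategory.Q.obj F) := by
  by_cases hcb : c ≤ b
  · exact ⟨F, hP, fun i hi => hvan i (by lia), ⟨Iso.refl _⟩⟩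
  haveI : F.IsLE b := (CochainComplex.isLE_iff _ _).2 fun i hi =>
    (HomologicalComplex.exactAt_iff_isZero_homology F i).2 (hcoh i hi)
  have hZ : P (F.cycles b) := cycles_mem hst F c b (fun i hi => hvan i (Or.inr hi))
    (fun i _ => hP i) (fun i hi => (HomologicalComplex.exactAt_iff_isZero_homology F i).2 (hcoh i hi))
  refine ⟨F.truncLE b, fun i => ?_, fun i hi => ?_, ⟨asIso (DerivedCategory.Q.map (F.ιTruncLE b))⟩⟩
  · rcases lt_trichotomy i b with h | rfl | h
    · exact P.prop_of_iso (F.truncLEXIso b i h).symm (hP i)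
    · exact P.prop_of_iso (F.truncLEXIsoCycles i).symm hZ
    · exact P.prop_of_isZero ((F.truncLE b).isZero_of_isStrictlyLE b i h)
  · rcases lt_trichotomy i b with h | rfl | h
    · exact (hvan i (by lia)).of_iso (F.truncLEXIso b i h)
    · exact (IsZero.of_mono (F.iCycles i) (hvan i (by lia))).of_iso (F.truncLEXIsoCycles i)
    · exact (F.truncLE b).isZero_of_isStrictlyLE b i h

lemma amp_biprod (a b : ℤ) {X Y : DerivedCategory C} {E E' : CochainComplex C ℤ}
    (hE : ∀ i, P (E.X i)) (hzE : ∀ i : ℤ, i < a ∨ b < i → IsZero (E.X i))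
    (hE' : ∀ i, P (E'.X i)) (hzE' : ∀ i : ℤ, i < a ∨ b < i → IsZero (E'.X i))
    (e : DerivedCategory.Q.obj E ≅ X) (e' : DerivedCategory.Q.obj E' ≅ Y) :
    ∃ G : CochainComplex C ℤ, (∀ i : ℤ, P (G.X i)) ∧
      (∀ i : ℤ, i < a ∨ b < i → IsZero (G.X i)) ∧
      Nonempty (DerivedCategory.Q.obj G ≅ X ⊞ Y) :=
  ⟨E ⊞ E', fun i => P.prop_of_iso (HomologicalComplex.biprodXIso E E' i).symm
      (mem_biprod hsum (hE i) (hE' i)),
    fun i hi => ((biprod_isZero_iff _ _).2 ⟨hzE i hi, hzE' i hi⟩).of_iso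
      (HomologicalComplex.biprodXIso E E' i),
    ⟨(Q_biprod E E').some ≪≫ biprod.mapIso e e'⟩⟩

lemma amp_of_biprod (hfac : ∀ (E' E'' : C) [HasBinaryBiproduct E' E''], P (E' ⊞ E'') → P E' ∧ P E'')
    (a b : ℤ) (hab : a ≤ b) {X Y : DerivedCategory C} {E : CochainComplex C ℤ}
    (hE : ∀ i, P (E.X i)) (hzE : ∀ i : ℤ, i < a ∨ b < i → IsZero (E.X i))
    (e : DerivedCategory.Q.obj E ≅ X ⊞ Y) :
    ∃ G : CochainComplex C ℤ, (∀ i : ℤ, P (G.X i)) ∧
      (∀ i : ℤ, i < a ∨ b < i → IsZero (G.X i)) ∧ Nonempty (DerivedCategory.Q.obj G ≅ X) := by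
  have hqs := quasiStable_of_stable hst
  have hql := quasiLiftable_of_liftable hlift
  have hH : ∀ i, i < a ∨ b < i → IsZero ((DerivedCategory.homologyFunctor C i).obj (X ⊞ Y)) :=
    fun i hi => (ShortComplex.exact_of_isZero_X₂ (E.sc i) (hzE i hi) |>
      (HomologicalComplex.exactAt_iff_isZero_homology E i).1).of_iso
      (((DerivedCategory.homologyFunctor C i).mapIso e).symm ≪≫ homologyQIso E i)
  have rep : ∀ Z : DerivedCategory C, ∀ (ι : Z ⟶ X ⊞ Y), Mono ι → IsSplitMono ι → PCoh.IsPC P Z →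
      ∃ G : CochainComplex C ℤ, G.IsGE a ∧ (∀ i, P (G.X i)) ∧ (∀ i : ℤ, b < i → IsZero (G.X i)) ∧
        Nonempty (DerivedCategory.Q.obj G ≅ Z) := by
    intro Z ι _ _ hPC
    have hZ : ∀ i, i < a ∨ b < i → IsZero ((DerivedCategory.homologyFunctor C i).obj Z) :=
      fun i hi => IsZero.of_mono ((DerivedCategory.homologyFunctor C i).map ι) (hH i hi)
    obtain ⟨G, hG, hz, ⟨g⟩⟩ := exists_strictPCAll_vanishing hsum hqs hql (m := b + 1)
      (DerivedCategory.Q.objObjPreimageIso Z)
      (fun n => NPC.of_iso (hPC n) (DerivedCategory.Q.objObjPreimageIso Z).symm)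
      (fun i hi => hZ i (Or.inr (by lia)))
    refine ⟨G, ?_, hG, fun i hi => hz i (by lia), ⟨g⟩⟩
    rw [CochainComplex.isGE_iff]
    intro i hi
    rw [HomologicalComplex.exactAt_iff_isZero_homology]
    exact (hZ i (Or.inl hi)).of_iso ((homologyQIso G i).symm ≪≫
      (DerivedCategory.homologyFunctor C i).mapIso g)
  have hPC : ∀ n, NPC P n (X ⊞ Y) := fun n =>
    NPC.mk ⟨⟨b, fun i hi => hzE i (Or.inr hi)⟩, fun i _ => hE i⟩ e
  obtain ⟨G, hGa, hG, hGz, ⟨g⟩⟩ := rep X biprod.inl inferInstance inferInstance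
    (fun n => (NPC.of_biprod hsum hqs hql (hPC n)).1)
  obtain ⟨G', hGa', hG', hGz', ⟨g'⟩⟩ := rep Y biprod.inr inferInstance inferInstance
    (fun n => (NPC.of_biprod hsum hqs hql (hPC n)).2)
  have key : ∀ (G : CochainComplex C ℤ), (∀ i, P (G.X i)) → (∀ i : ℤ, b < i → IsZero (G.X i)) →
      (∀ i : ℤ, i < a ∨ b < i → IsZero ((G.truncGE a).X i)) ∧
      (∀ i : ℤ, a < i → P ((G.truncGE a).X i)) := by
    intro G hG hGz
    refine ⟨fun i hi => ?_, fun i hi => P.prop_of_iso (G.truncGEXIso a i hi).symm (hG i)⟩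
    rcases hi with hi | hi
    · exact (G.truncGE a).isZero_of_isStrictlyGE a i hi
    · exact (hGz i hi).of_iso (G.truncGEXIso a i (by lia))
  obtain ⟨hT, hTP⟩ := key G hG hGz
  obtain ⟨hT', hTP'⟩ := key G' hG' hGz'
  let gT : DerivedCategory.Q.obj (G.truncGE a) ≅ X :=
    (asIso (DerivedCategory.Q.map (G.πTruncGE a))).symm ≪≫ g
  let gT' : DerivedCategory.Q.obj (G'.truncGE a) ≅ Y :=
    (asIso (DerivedCategory.Q.map (G'.πTruncGE a))).symm ≪≫ g'
  let S := (G.truncGE a) ⊞ (G'.truncGE a)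
  let eX (i : ℤ) := HomologicalComplex.biprodXIso (G.truncGE a) (G'.truncGE a) i
  have hS : P (S.X a) := mem_bottom hlift hst hsum a b S
    (fun i hi => ((biprod_isZero_iff _ _).2 ⟨hT i (Or.inl hi), hT' i (Or.inl hi)⟩).of_iso (eX i))
    (fun i hi => ((biprod_isZero_iff _ _).2 ⟨hT i (Or.inr hi), hT' i (Or.inr hi)⟩).of_iso (eX i))
    (fun i hi => P.prop_of_iso (eX i).symm (mem_biprod hsum (hTP i hi) (hTP' i hi)))
    E hE hzE (e ≪≫ ((Q_biprod _ _).some ≪≫ biprod.mapIso gT gT').symm)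
  refine ⟨G.truncGE a, fun i => ?_, hT, ⟨gT⟩⟩
  rcases lt_trichotomy i a with h | rfl | h
  · exact P.prop_of_isZero (hT i (Or.inl h))
  · exact (hfac _ _ (P.prop_of_iso (eX i) hS)).1
  · exact hTP i h

end Groth.Agent.PCohLib
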