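import Groth.Agent.PCohLib.Stupid
import Mathlib.Algebra.Homology.Augment
import Mathlib.Algebra.Homology.Embedding.RestrictionHomology
import Mathlib.Algebra.Homology.Embedding.StupidTrunc

/-!
Objects of finite presentation of order `n` versus pseudo-coherence.
-/

set_option autoImplicit false
set_option linter.style.haveILetI false
set_option linter.unusedSectionVars false
set_option linter.unusedVariables false
universe w v u

open CategoryTheory CategoryTheory.Limits CategoryTheory.Pretriangulated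
open ComplexShape (embeddingUpIntGE embeddingDownNat)

namespace Groth.Agent.PCohLib

variable {C : Type u} [Category.{v} C] [Abelian C]

lemma stupidGE_exactAt (G : CochainComplex C ℤ) (p i : ℤ) (h : p < i) (hG : G.ExactAt i) :
    (G.stupidTrunc (embeddingUpIntGE p)).ExactAt i := by
  obtain ⟨m, rfl⟩ : ∃ m : ℕ, p + ((m + 1 : ℕ) : ℤ) = i := ⟨(i - p - 1).toNat, by lia⟩
  refine (HomologicalComplex.extend_exactAt_iff _ (embeddingUpIntGE p) (j := m + 1) rfl).2 ?_
  rw [HomologicalComplex.exactAt_iff_isZero_homology] at hG ⊢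
  refine hG.of_iso (G.restrictionHomologyIso (embeddingUpIntGE p) m (m + 1) (m + 2) (by simp)
    (by simp) (i' := p + (m : ℤ)) (k' := p + ((m + 2 : ℕ) : ℤ)) (by simp) (by simp) (by simp)
    ?_ ?_)
  · simp; lia
  · simp; lia

lemma restrictionDown_exactAt (G : CochainComplex C ℤ) (j : ℕ) (hG : G.ExactAt (-(j + 1 : ℕ) : ℤ)) :
    (G.restriction embeddingDownNat).ExactAt (j + 1) := by
  rw [HomologicalComplex.exactAt_iff_isZero_homology] at hG ⊢
  refine hG.of_iso (G.restrictionHomologyIso embeddingDownNat (j + 2) (j + 1) j (by simp)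
    (by simp) (i' := (-(j + 2 : ℕ) : ℤ)) (k' := (-(j : ℕ) : ℤ)) (by simp) (by simp) (by simp)
    ?_ ?_)
  · simp; lia
  · simp

variable [HasDerivedCategory.{w} C] {P : ObjectProperty C}
  [P.IsClosedUnderIsomorphisms] [P.ContainsZero]

lemma NPC_of_presentation (hsum : ∀ X Y : C, P X → P Y → P (X ⨯ Y))
    (hqs : PCoh.IsQuasiStableUnderKernels P) (hql : PCoh.IsQuasiLiftable P) (n : ℕ)
    (K : ChainComplex C ℕ) (hK : ∀ j : ℕ, j ≤ n → K.ExactAt j)
    (hz : ∀ j : ℕ, n + 1 < j → IsZero (K.X j)) (hP : ∀ j : ℕ, 1 ≤ j → j ≤ n + 1 → P (K.X j)) :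
    NPC P (-(n : ℤ)) ((DerivedCategory.singleFunctor C 0).obj (K.X 0)) := by
  let L := K.extend embeddingDownNat
  have hL : ∀ i : ℤ, 0 < i → IsZero (L.X i) := fun i hi =>
    K.isZero_extend_X _ i (fun j => by simp; lia)
  let eX (j : ℕ) : L.X (-(j : ℤ)) ≅ K.X j := K.extendXIso embeddingDownNat rfl
  have hLe : ∀ i : ℤ, -(n : ℤ) ≤ i → L.ExactAt i := fun i hi => by
    by_cases h : i ≤ 0
    · obtain ⟨j, rfl⟩ : ∃ j : ℕ, -(j : ℤ) = i := ⟨(-i).toNat, by lia⟩
      exact (HomologicalComplex.extend_exactAt_iff K embeddingDownNat (j := j) (by simp)).2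
        (hK j (by lia))
    · exact ShortComplex.exact_of_isZero_X₂ _ (hL i (by lia))
  obtain ⟨S, hS, h₁, h₂, hz₃, hiso⟩ := exists_ses_top L 0 (hL _ (by lia))
  have hX₂ : NPC P (-(n : ℤ)) (DerivedCategory.Q.obj S.X₂) := by
    haveI : (DerivedCategory.Q.obj S.X₂).IsLE (-(n : ℤ) - 1) := by
      rw [DerivedCategory.isLE_iff]
      intro i hi
      rw [h₂]
      exact (hLe i (by lia)).isZero_homology.of_iso (homologyQIso L i)
    exact NPC_of_isLE _ (b := -(n : ℤ) - 1) (by lia)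
  have hX₃ : NPC P (-(n : ℤ) - 1) (DerivedCategory.Q.obj S.X₃) := by
    refine NPC.mk ⟨⟨0, fun i hi => ?_⟩, fun i hi => ?_⟩ (Iso.refl _)
    · obtain ⟨e⟩ := hiso i (by lia)
      exact (hL i hi).of_iso e.symm
    · by_cases h0 : i = 0
      · subst h0; exact P.prop_of_isZero hz₃
      obtain ⟨e⟩ := hiso i h0
      by_cases hi' : 0 < i
      · exact P.prop_of_isZero ((hL i hi').of_iso e.symm)
      obtain ⟨j, rfl⟩ : ∃ j : ℕ, -(j : ℤ) = i := ⟨(-i).toNat, by lia⟩
      exact P.prop_of_iso ((eX j).symm ≪≫ e) (hP j (by lia) (by lia))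
  have h := NPC.of_triangle₁ hsum hqs hql (DerivedCategory.triangleOfSES_distinguished hS)
    (n := -(n : ℤ) - 1) (hX₂.mono (by lia)) hX₃
  exact ((h.mono (m := -(n : ℤ)) (by lia)).of_iso
    (eqToIso (by rw [← h₁]; rfl) ≪≫ singleQIso 0 (L.X 0))).of_iso
    ((DerivedCategory.singleFunctor C 0).mapIso (eX 0))

lemma exists_presentation (hsum : ∀ X Y : C, P X → P Y → P (X ⨯ Y))
    (hqs : PCoh.IsQuasiStableUnderKernels P) (hql : PCoh.IsQuasiLiftable P) (n : ℕ) (F : C)
    (h : NPC P (-(n : ℤ)) ((DerivedCategory.singleFunctor C 0).obj F)) :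
    ∃ K : ChainComplex C ℕ, Nonempty (K.X 0 ≅ F) ∧ (∀ j : ℕ, j ≤ n → K.ExactAt j) ∧
      (∀ j : ℕ, n + 1 < j → IsZero (K.X j)) ∧ (∀ j : ℕ, 1 ≤ j → j ≤ n + 1 → P (K.X j)) := by
  obtain ⟨E, ⟨-, hP⟩, hE, ⟨e⟩⟩ := exists_strictPC_vanishing hsum hqs hql (m := 1)
    (singleQIso 0 F) (h.of_iso (singleQIso 0 F).symm)
    (fun i hi => DerivedCategory.isZero_of_isLE _ 0 i (by lia))
  have hH : ∀ i : ℤ, i ≠ 0 → E.ExactAt i := fun i hi => by
    rw [HomologicalComplex.exactAt_iff_isZero_homology]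
    refine IsZero.of_iso ?_
      ((homologyQIso E i).symm ≪≫ (DerivedCategory.homologyFunctor C i).mapIso e)
    rcases lt_or_gt_of_ne hi with hi | hi
    · exact DerivedCategory.isZero_of_isGE _ 0 i hi
    · exact DerivedCategory.isZero_of_isLE _ 0 i hi
  let h0 : E.homology 0 ≅ F :=
    (homologyQIso E 0).symm ≪≫ (DerivedCategory.homologyFunctor C 0).mapIso e ≪≫
      singleHomologyIso 0 F
  let ι₀ : E.homology 0 ≅ E.opcycles 0 :=
    E.isoHomologyι 0 1 (by simp) ((hE 1 le_rfl).eq_of_tgt _ _)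
  let φ : E.X 0 ⟶ F := E.pOpcycles 0 ≫ ι₀.inv ≫ h0.hom
  have hφ : Epi φ := epi_comp _ _
  let G := E.stupidTrunc (embeddingUpIntGE (-(n : ℤ)))
  let M := G.restriction embeddingDownNat
  let eM (j : ℕ) (hj : j ≤ n) : M.X j ≅ E.X (-(j : ℤ)) :=
    E.stupidTruncXIso (embeddingUpIntGE (-(n : ℤ))) (i := n - j)
      (by simp; lia)
  have hMz : ∀ j : ℕ, n < j → IsZero (M.X j) := fun j hj =>
    E.isZero_stupidTrunc_X _ _ (fun m => by simp; lia)
  have hMd : ∀ (hn : 1 ≤ n), M.d 1 0 = (eM 1 hn).hom ≫ E.d (-1) 0 ≫ (eM 0 n.zero_le).inv := by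
    intro hn
    show G.d (-((1 : ℕ) : ℤ)) (-((0 : ℕ) : ℤ)) = _
    dsimp [G, eM, HomologicalComplex.stupidTrunc, HomologicalComplex.stupidTruncXIso]
    rw [(E.restriction (embeddingUpIntGE (-(n : ℤ)))).extend_d_eq (embeddingUpIntGE (-(n : ℤ)))
      (i := n - 1) (j := n) (by simp; lia) (by simp),
      E.restriction_d_eq (embeddingUpIntGE (-(n : ℤ))) (i' := -1) (j' := 0) (by simp; lia)
        (by simp)]
    simp [HomologicalComplex.restrictionXIso]
    exact (Category.assoc _ _ _).symm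
  let φ' : M.X 0 ⟶ F := (eM 0 n.zero_le).hom ≫ φ
  have hw : M.d 1 0 ≫ φ' = 0 := by
    by_cases hn : 1 ≤ n
    · simp [φ', φ, hMd hn]
    · exact (hMz 1 (by lia)).eq_of_src _ _
  haveI : Epi φ' := epi_comp _ _
  refine ⟨ChainComplex.augment M φ' hw, ⟨Iso.refl _⟩, ?_, fun j hj => ?_, fun j h1 hj => ?_⟩
  · rintro (_ | _ | j) hj
    · rw [HomologicalComplex.exactAt_iff' _ 1 0 0 (by simp) (by simp),
        ShortComplex.exact_iff_epi _ ((ChainComplex.augment M φ' hw).shape 0 0 (by simp))]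
      exact this
    · rw [HomologicalComplex.exactAt_iff' _ 2 1 0 (by simp) (by simp)]
      have ex : (ShortComplex.mk (E.d (-1) 0) φ (by simp [φ])).Exact := by
        refine (ShortComplex.exact_iff_of_iso ?_).1 (ShortComplex.exact_of_g_is_cokernel
          (ShortComplex.mk _ _ (E.d_pOpcycles (-1) 0))
          (E.opcyclesIsCokernel (-1) 0 (by simp)))
        exact ShortComplex.isoMk (Iso.refl _) (Iso.refl _) (ι₀.symm ≪≫ h0) (by simp) (by simp [φ])
      refine (ShortComplex.exact_iff_of_iso ?_).1 ex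
      exact ShortComplex.isoMk (eM 1 hj).symm (eM 0 n.zero_le).symm (Iso.refl _)
        (by simp [hMd hj]; exact (eM 1 hj).inv_hom_id_assoc _)
        (((eM 0 n.zero_le).inv_hom_id_assoc φ).trans (Category.comp_id φ).symm)
    · rw [HomologicalComplex.exactAt_iff' _ (j + 3) (j + 2) (j + 1) (by simp) (by simp)]
      have := restrictionDown_exactAt G j
        (stupidGE_exactAt E _ _ (by lia) (hH _ (by lia)))
      rw [HomologicalComplex.exactAt_iff' _ (j + 2) (j + 1) j (by simp) (by simp)] at this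
      exact this
  · obtain ⟨j, rfl⟩ : ∃ m, j = m + 1 := ⟨j - 1, by lia⟩
    exact hMz j (by lia)
  · obtain ⟨j, rfl⟩ : ∃ m, j = m + 1 := ⟨j - 1, by lia⟩
    exact P.prop_of_iso (eM j (by lia)).symm (hP _ (by lia))

end Groth.Agent.PCohLib
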