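import Groth.Agent.PCohLib.Trunc

/-!
Direct factors of pseudo-coherent objects.
-/

set_option autoImplicit false
set_option linter.style.haveILetI false
set_option linter.unusedSectionVars false
universe w v u

open CategoryTheory CategoryTheory.Limits CategoryTheory.Pretriangulated

namespace Groth.Agent.PCohLib

variable {C : Type u} [Category.{v} C] [Abelian C] [HasDerivedCategory.{w} C] {P : ObjectProperty C}
  [P.IsClosedUnderIsomorphisms] [P.ContainsZero]

lemma NPC.isLE {n : ℤ} {X : DerivedCategory C} (h : NPC P n X) : ∃ b : ℤ, X.IsLE b := by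
  obtain ⟨E, ⟨⟨b, hb⟩, -⟩, ⟨e⟩⟩ := h
  refine ⟨b, (DerivedCategory.isLE_iff _ _).2 fun i hi => ?_⟩
  exact (ShortComplex.exact_of_isZero_X₂ (E.sc i) (hb i hi) |>
    (HomologicalComplex.exactAt_iff_isZero_homology E i).1).of_iso
    (((DerivedCategory.homologyFunctor C i).mapIso e).symm ≪≫ homologyQIso E i)

lemma NPC.biprod (hsum : ∀ X Y : C, P X → P Y → P (X ⨯ Y))
    (hqs : PCoh.IsQuasiStableUnderKernels P) (hql : PCoh.IsQuasiLiftable P) {n : ℤ}
    {X Y : DerivedCategory C} (hX : NPC P n X) (hY : NPC P n Y) : NPC P n (X ⊞ Y) :=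
  NPC.of_triangle₂ hsum hqs hql (binaryBiproductTriangle_distinguished X Y) hX hY

lemma NPC.of_biprod (hsum : ∀ X Y : C, P X → P Y → P (X ⨯ Y))
    (hqs : PCoh.IsQuasiStableUnderKernels P) (hql : PCoh.IsQuasiLiftable P) {n : ℤ}
    {X Y : DerivedCategory C} (h : NPC P n (X ⊞ Y)) : NPC P n X ∧ NPC P n Y := by
  obtain ⟨b, hb⟩ := h.isLE
  have hbX : X.IsLE b := (DerivedCategory.isLE_iff _ _).2 fun i hi =>
    IsZero.of_mono ((DerivedCategory.homologyFunctor C i).map (biprod.inl : X ⟶ X ⊞ Y))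
      ((X ⊞ Y).isZero_of_isLE b i hi)
  have hbY : Y.IsLE b := (DerivedCategory.isLE_iff _ _).2 fun i hi =>
    IsZero.of_mono ((DerivedCategory.homologyFunctor C i).map (biprod.inr : Y ⟶ X ⊞ Y))
      ((X ⊞ Y).isZero_of_isLE b i hi)
  obtain ⟨k, hk⟩ : ∃ k : ℕ, b < n + k := ⟨(b - n + 1).toNat, by lia⟩
  suffices ∀ (m : ℤ), n ≤ m → b < m + k → NPC P m X ∧ NPC P m Y from this n le_rfl hk
  clear hk
  induction k with
  | zero => exact fun m _ hm => ⟨NPC_of_isLE X (b := b) (by lia), NPC_of_isLE Y (b := b) (by lia)⟩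
  | succ k ih =>
    intro m hm hmk
    obtain ⟨hX, hY⟩ := ih (m + 1) (by lia) (by lia)
    refine ⟨NPC.of_triangle₃ hsum hqs hql (binaryBiproductTriangle_distinguished Y X) hY
      ((h.mono hm).of_iso (biprod.braiding X Y)), ?_⟩
    exact NPC.of_triangle₃ hsum hqs hql (binaryBiproductTriangle_distinguished X Y) hX (h.mono hm)

end Groth.Agent.PCohLib
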