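import Groth.Agent.PCohLib.Basic
import Mathlib.CategoryTheory.Abelian.Refinements

/-!
Objects of `C₀`-finite type and precoherent objects.
-/

set_option autoImplicit false
set_option linter.unusedSectionVars false
set_option linter.style.haveILetI false
universe v u

open CategoryTheory CategoryTheory.Limits

namespace Groth.Agent.PCohLib

variable {C : Type u} [Category.{v} C] [Abelian C] {P : ObjectProperty C}

/-- Every morphism from a `P`-object has kernel of finite type. -/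
def Precoh (P : ObjectProperty C) (H : C) : Prop :=
  ∀ (E : C) (u : E ⟶ H), P E → PCoh.IsOfFiniteType P (kernel u)

lemma Precoh.of_mono {X Y : C} (i : X ⟶ Y) [Mono i] (h : Precoh P Y) : Precoh P X :=
  fun E u hE => ft_of_iso (kernelCompMono u i) (h E (u ≫ i) hE)

lemma Precoh.of_iso {X Y : C} (e : X ≅ Y) (h : Precoh P X) : Precoh P Y :=
  h.of_mono e.inv

lemma ft_extension [P.IsClosedUnderIsomorphisms] (hsum : ∀ X Y : C, P X → P Y → P (X ⨯ Y))
    (hql : PCoh.IsQuasiLiftable P) (S : ShortComplex C) (hS : S.Exact) (hg : Epi S.g)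
    (h₁ : PCoh.IsOfFiniteType P S.X₁) (h₃ : PCoh.IsOfFiniteType P S.X₃) :
    PCoh.IsOfFiniteType P S.X₂ := by
  obtain ⟨E₁, π, hE₁, hπ⟩ := h₁
  obtain ⟨F, γ, hF, hγ⟩ := ft_lift hql S.g h₃
  refine ⟨E₁ ⊞ F, biprod.desc (π ≫ S.f) γ, mem_biprod hsum hE₁ hF, ?_⟩
  apply Preadditive.epi_of_cancel_zero
  intro Z h hh
  have h1 : (π ≫ S.f) ≫ h = 0 := by simpa using biprod.inl ≫= hh
  have h2 : γ ≫ h = 0 := by simpa using biprod.inr ≫= hh
  obtain ⟨h', hh'⟩ := CokernelCofork.IsColimit.desc' hS.gIsCokernel h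
    (by rw [← cancel_epi π]; simpa using h1)
  simp only [Cofork.π_ofπ] at hh'
  have : h' = 0 := by
    rw [← cancel_epi (γ ≫ S.g), Category.assoc, hh', h2, comp_zero]
  rw [← hh', this, comp_zero]

lemma ft_of_exact_mono (S : ShortComplex C) (hS : S.Exact) (hf : Mono S.f)
    (hG : PCoh.IsOfFiniteType P S.X₂) (hH : Precoh P S.X₃) :
    PCoh.IsOfFiniteType P S.X₁ := by
  obtain ⟨E, π, hE, hπ⟩ := hG
  let s : kernel (π ≫ S.g) ⟶ S.X₁ := hS.lift (kernel.ι (π ≫ S.g) ≫ π) (by simp)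
  have : Epi s := by
    rw [epi_iff_surjective_up_to_refinements]
    intro A x
    obtain ⟨A', p, hp, y, hy⟩ := surjective_up_to_refinements_of_epi π (x ≫ S.f)
    refine ⟨A', p, hp, kernel.lift _ y (by rw [← reassoc_of% hy]; simp), ?_⟩
    simp [← cancel_mono S.f, s, hy]
  exact ft_of_epi s (hH E (π ≫ S.g) hE)

lemma Precoh.extension (S : ShortComplex C) (hS : S.ShortExact)
    (h₁ : Precoh P S.X₁) (h₃ : Precoh P S.X₃) : Precoh P S.X₂ := by
  intro E u hE
  obtain ⟨E', π, hE', hπ⟩ := h₃ E (u ≫ S.g) hE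
  haveI := hS.mono_f
  let t : E' ⟶ S.X₁ := hS.exact.lift (π ≫ kernel.ι (u ≫ S.g) ≫ u) (by simp)
  have ht : t ≫ S.f = π ≫ kernel.ι (u ≫ S.g) ≫ u := hS.exact.lift_f _ _
  let s : kernel t ⟶ kernel u := kernel.lift u (kernel.ι t ≫ π ≫ kernel.ι (u ≫ S.g))
    (by simp [← ht])
  have : Epi s := by
    rw [epi_iff_surjective_up_to_refinements]
    intro A x
    obtain ⟨A', p, hp, y, hy⟩ := surjective_up_to_refinements_of_epi π
      (kernel.lift (u ≫ S.g) (x ≫ kernel.ι u) (by simp))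
    have hy' : y ≫ π ≫ kernel.ι (u ≫ S.g) = p ≫ x ≫ kernel.ι u := by
      rw [← reassoc_of% hy]; simp
    refine ⟨A', p, hp, kernel.lift t y ?_, ?_⟩
    · rw [← cancel_mono S.f, Category.assoc, ht, reassoc_of% hy']; simp
    · simp [← cancel_mono (kernel.ι u), s, hy']
  exact ft_of_epi s (h₁ E' t hE')

lemma Precoh.of_exact_epi [P.IsClosedUnderIsomorphisms]
    (hsum : ∀ X Y : C, P X → P Y → P (X ⨯ Y)) (hql : PCoh.IsQuasiLiftable P)
    (S : ShortComplex C) (hS : S.Exact) (hg : Epi S.g)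
    (hF : PCoh.IsOfFiniteType P S.X₁) (hG : Precoh P S.X₂) : Precoh P S.X₃ := by
  intro E u hE
  obtain ⟨X, γ, hX, hγ⟩ := ft_lift hql (pullback.snd S.g u) (ft_of_mem hE)
  obtain ⟨F, π, hF, hπ⟩ := hF
  let w : X ⟶ E := γ ≫ pullback.snd S.g u
  let v : X ⟶ S.X₂ := γ ≫ pullback.fst S.g u
  have hvw : v ≫ S.g = w ≫ u := by simp [v, w, pullback.condition]
  haveI : Epi w := hγ
  let k := kernel.ι (biprod.desc v (π ≫ S.f))
  have hk : k ≫ biprod.fst ≫ v ≫ S.g = 0 := by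
    have := congr_arg (· ≫ S.g) (kernel.condition (biprod.desc v (π ≫ S.f)))
    simpa [biprod.desc_eq, k] using this
  let s : kernel (biprod.desc v (π ≫ S.f)) ⟶ kernel u :=
    kernel.lift u (k ≫ biprod.fst ≫ w) (by simpa [hvw] using hk)
  have : Epi s := by
    rw [epi_iff_surjective_up_to_refinements]
    intro A x
    obtain ⟨A₁, p₁, hp₁, y, hy⟩ := surjective_up_to_refinements_of_epi w (x ≫ kernel.ι u)
    obtain ⟨A₂, p₂, hp₂, z, hz⟩ := hS.exact_up_to_refinements (y ≫ v)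
      (by rw [Category.assoc, hvw, ← reassoc_of% hy]; simp)
    obtain ⟨A₃, p₃, hp₃, q, hq⟩ := surjective_up_to_refinements_of_epi π z
    refine ⟨A₃, p₃ ≫ p₂ ≫ p₁, inferInstance,
      kernel.lift _ (biprod.lift (p₃ ≫ p₂ ≫ y) (-q)) ?_, ?_⟩
    · simp [biprod.lift_desc, hz, reassoc_of% hq]
    · simp [← cancel_mono (kernel.ι u), s, k, hy]
  exact ft_of_epi s (hG _ _ (mem_biprod hsum hX hF))

end Groth.Agent.PCohLib
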