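import Groth.Agent.PCohLib.Descend
import Mathlib.Algebra.Homology.DerivedCategory.Fractions
import Mathlib.Algebra.Homology.DerivedCategory.HomologySequence

/-!
Pseudo-coherent objects of the derived category of an abelian category.
-/

set_option autoImplicit false
set_option linter.style.haveILetI false
set_option linter.unusedSectionVars false
universe w v u

open CategoryTheory CategoryTheory.Limits CategoryTheory.Pretriangulated ZeroObject
open CochainComplex (mappingCone)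

namespace Groth.Agent.PCohLib

variable {C : Type u} [Category.{v} C] [Abelian C] [HasDerivedCategory.{w} C] {P : ObjectProperty C}

/-- The homology of `Q.obj K` is the homology of `K`. -/
noncomputable def homologyQIso (K : CochainComplex C ℤ) (k : ℤ) :
    (DerivedCategory.homologyFunctor C k).obj (DerivedCategory.Q.obj K) ≅ K.homology k :=
  (DerivedCategory.homologyFunctorFactors C k).app K

lemma homologyMap_Q {K L : CochainComplex C ℤ} (f : K ⟶ L) (k : ℤ) :
    (DerivedCategory.homologyFunctor C k).map (DerivedCategory.Q.map f) =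
      (homologyQIso K k).hom ≫ HomologicalComplex.homologyMap f k ≫ (homologyQIso L k).inv := by
  rw [← Category.assoc, Iso.eq_comp_inv]
  exact (DerivedCategory.homologyFunctorFactors C k).hom.naturality f

lemma isIso_homologyMap_Q_iff {K L : CochainComplex C ℤ} (f : K ⟶ L) (k : ℤ) :
    IsIso ((DerivedCategory.homologyFunctor C k).map (DerivedCategory.Q.map f)) ↔
      IsIso (HomologicalComplex.homologyMap f k) := by
  rw [homologyMap_Q, isIso_comp_left_iff, isIso_comp_right_iff]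

lemma epi_homologyMap_Q_iff {K L : CochainComplex C ℤ} (f : K ⟶ L) (k : ℤ) :
    Epi ((DerivedCategory.homologyFunctor C k).map (DerivedCategory.Q.map f)) ↔
      Epi (HomologicalComplex.homologyMap f k) := by
  rw [homologyMap_Q]
  exact (MorphismProperty.cancel_left_of_respectsIso (MorphismProperty.epimorphisms C) _ _).trans
    (MorphismProperty.cancel_right_of_respectsIso (MorphismProperty.epimorphisms C) _ _)

/-- Cones of isomorphic arrows of the derived category have isomorphic images. -/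
noncomputable def coneQIso {E F E' F' : CochainComplex C ℤ} (u : E ⟶ F) (u' : E' ⟶ F')
    (e₁ : DerivedCategory.Q.obj E ≅ DerivedCategory.Q.obj E')
    (e₂ : DerivedCategory.Q.obj F ≅ DerivedCategory.Q.obj F')
    (h : DerivedCategory.Q.map u ≫ e₂.hom = e₁.hom ≫ DerivedCategory.Q.map u') :
    DerivedCategory.Q.obj (mappingCone u) ≅ DerivedCategory.Q.obj (mappingCone u') :=
  Triangle.π₃.mapIso (isoTriangleOfIso₁₂ _ _
    (DerivedCategory.mappingCone_triangle_distinguished u)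
    (DerivedCategory.mappingCone_triangle_distinguished u') e₁ e₂ h)

/-- `n`-pseudo-coherent objects of the derived category. -/
def NPC (P : ObjectProperty C) (n : ℤ) (X : DerivedCategory C) : Prop :=
  ∃ E : CochainComplex C ℤ, PCoh.IsStrictPC P n E ∧ Nonempty (DerivedCategory.Q.obj E ≅ X)

lemma NPC.mk {n : ℤ} {E : CochainComplex C ℤ} {X : DerivedCategory C}
    (hE : PCoh.IsStrictPC P n E) (e : DerivedCategory.Q.obj E ≅ X) : NPC P n X :=
  ⟨E, hE, ⟨e⟩⟩

lemma NPC.of_iso {n : ℤ} {X Y : DerivedCategory C} (h : NPC P n X) (e : X ≅ Y) : NPC P n Y := by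
  obtain ⟨E, hE, ⟨e'⟩⟩ := h
  exact ⟨E, hE, ⟨e' ≪≫ e⟩⟩

lemma NPC.mono {n m : ℤ} {X : DerivedCategory C} (h : NPC P n X) (hnm : n ≤ m) : NPC P m X := by
  obtain ⟨E, hE, he⟩ := h
  exact ⟨E, strictPC_mono hE hnm, he⟩

lemma exists_exactFrom {n : ℤ} {E : CochainComplex C ℤ} (h : PCoh.IsStrictPC P n E) :
    ∃ b, ExactFrom b E := by
  obtain ⟨b, hb⟩ := h.1
  exact ⟨b + 1, fun i hi => HomologicalComplex.exactAt_iff_isZero_homology _ _ |>.2
    ((E.exactAt_iff i).2 (ShortComplex.exact_of_isZero_X₂ (E.sc i) (hb i (by lia)))).isZero_homology⟩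

lemma exactFrom_of_iso {n : ℤ} {E F : CochainComplex C ℤ}
    (e : DerivedCategory.Q.obj E ≅ DerivedCategory.Q.obj F) (h : ExactFrom n E) :
    ExactFrom n F := fun i hi => by
  rw [HomologicalComplex.exactAt_iff_isZero_homology]
  exact (h i hi).isZero_homology.of_iso ((homologyQIso F i).symm ≪≫
    ((DerivedCategory.homologyFunctor C i).mapIso e).symm ≪≫ homologyQIso E i)

lemma NPC.exists_exactFrom {n : ℤ} {F : CochainComplex C ℤ}
    (h : NPC P n (DerivedCategory.Q.obj F)) : ∃ b, ExactFrom b F := by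
  obtain ⟨E, hE, ⟨e⟩⟩ := h
  obtain ⟨b, hb⟩ := PCohLib.exists_exactFrom hE
  exact ⟨b, exactFrom_of_iso e hb⟩

section

variable [P.IsClosedUnderIsomorphisms] [P.ContainsZero]

lemma strictPCAll_of_isZero {E : CochainComplex C ℤ} (h : IsZero E) : PCoh.IsStrictPCAll P E :=
  have h' : ∀ i : ℤ, IsZero (E.X i) := fun i =>
    (HomologicalComplex.eval C (ComplexShape.up ℤ) i).map_isZero h
  ⟨⟨0, fun i _ => h' i⟩, fun i => P.prop_of_isZero (h' i)⟩

lemma NQ_of_isZero {n : ℤ} {E F : CochainComplex C ℤ} (hE : IsZero E) (hF : ExactFrom n F)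
    (u : E ⟶ F) : NQ n u := by
  refine ⟨fun i hi => isIso_of_source_target_iso_zero _
      (((HomologicalComplex.homologyFunctor C _ i).map_isZero hE).isoZero)
      ((hF i hi.le).isZero_homology.isoZero), ?_⟩
  exact IsZero.epi (hF n le_rfl).isZero_homology _

end

lemma strictPC_mappingCone [P.IsClosedUnderIsomorphisms]
    (hsum : ∀ X Y : C, P X → P Y → P (X ⨯ Y)) {n : ℤ}
    {E F : CochainComplex C ℤ} (hE : PCoh.IsStrictPC P (n + 1) E) (hF : PCoh.IsStrictPC P n F)
    (g : E ⟶ F) : PCoh.IsStrictPC P n (mappingCone g) := by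
  obtain ⟨⟨b, hb⟩, hP⟩ := hE
  obtain ⟨⟨b', hb'⟩, hP'⟩ := hF
  refine ⟨⟨max b b', fun i hi => ?_⟩, fun i hi => ?_⟩
  · rw [CochainComplex.mappingCone.isZero_X_iff]
    exact ⟨hb _ (by lia), hb' _ (by lia)⟩
  · exact P.prop_of_iso (HomologicalComplex.homotopyCofiber.XIsoBiprod g i (i + 1) rfl).symm
      (mem_biprod hsum (hP _ (by lia)) (hP' i hi))

/-- If arrows are isomorphic in the derived category and one of them has a strict cone. -/
lemma ft_cone_of_iso [P.IsClosedUnderIsomorphisms]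
    (hsum : ∀ X Y : C, P X → P Y → P (X ⨯ Y)) (hqs : PCoh.IsQuasiStableUnderKernels P) {k : ℤ}
    {E F E' F' : CochainComplex C ℤ} (u : E ⟶ F) (g : E' ⟶ F')
    (e₁ : DerivedCategory.Q.obj E ≅ DerivedCategory.Q.obj E')
    (e₂ : DerivedCategory.Q.obj F ≅ DerivedCategory.Q.obj F')
    (h : DerivedCategory.Q.map u ≫ e₂.hom = e₁.hom ≫ DerivedCategory.Q.map g)
    (hu : NQ (k + 1) u) (hE' : PCoh.IsStrictPC P (k + 1) E') (hF' : PCoh.IsStrictPC P k F') :
    PCoh.IsOfFiniteType P ((mappingCone u).homology k) := by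
  let e := coneQIso u g e₁ e₂ h
  exact ft_of_iso ((homologyQIso _ k).symm ≪≫
      ((DerivedCategory.homologyFunctor C k).mapIso e).symm ≪≫ homologyQIso _ k)
    (ft_homology_of_strict hqs (strictPC_mappingCone hsum hE' hF' g)
      (exactFrom_of_iso e hu.exactFrom))

lemma good_of_quasiIso_to [P.IsClosedUnderIsomorphisms]
    (hsum : ∀ X Y : C, P X → P Y → P (X ⨯ Y)) (hqs : PCoh.IsQuasiStableUnderKernels P) {n : ℤ}
    {F F₀ : CochainComplex C ℤ} (hF₀ : PCoh.IsStrictPC P n F₀) (w : F ⟶ F₀) [QuasiIso w] :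
    Good P n F := fun k E u hk hE hu =>
  haveI : IsIso (DerivedCategory.Q.map w) := by
    rw [DerivedCategory.isIso_Q_map_iff_quasiIso]; infer_instance
  ft_cone_of_iso hsum hqs u (u ≫ w) (Iso.refl _) (asIso (DerivedCategory.Q.map w))
    (by simp) hu (strictPC_mono hE (by lia)) (strictPC_mono hF₀ hk)

variable [P.IsClosedUnderIsomorphisms] [P.ContainsZero]

/-- S5597. -/
lemma exists_strictPC_to (hsum : ∀ X Y : C, P X → P Y → P (X ⨯ Y))
    (hqs : PCoh.IsQuasiStableUnderKernels P) (hql : PCoh.IsQuasiLiftable P) {n : ℤ}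
    {E F : CochainComplex C ℤ} (hF : PCoh.IsStrictPC P n F) (u : E ⟶ F) [QuasiIso u] :
    ∃ (E' : CochainComplex C ℤ) (q : E' ⟶ E), PCoh.IsStrictPC P n E' ∧ QuasiIso q := by
  obtain ⟨b, hb⟩ := exists_exactFrom hF
  haveI : IsIso (DerivedCategory.Q.map u) := by
    rw [DerivedCategory.isIso_Q_map_iff_quasiIso]; infer_instance
  obtain ⟨E', -, q, -, hE', hq, -, -⟩ := exists_strictPC_factorisation hsum hql
    (good_of_quasiIso_to hsum hqs hF u)
    (strictPC_of_all (strictPCAll_of_isZero (isZero_zero (CochainComplex C ℤ))) n)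
    (0 : (0 : CochainComplex C ℤ) ⟶ E)
    (NQ_of_isZero (isZero_zero _)
      (exactFrom_of_iso (asIso (DerivedCategory.Q.map u)).symm hb) _)
  exact ⟨E', q, hE', hq⟩

/-- An object isomorphic to a strict complex is good. -/
lemma good_of_NPC (hsum : ∀ X Y : C, P X → P Y → P (X ⨯ Y))
    (hqs : PCoh.IsQuasiStableUnderKernels P) (hql : PCoh.IsQuasiLiftable P) {n : ℤ}
    {F : CochainComplex C ℤ} (hF : NPC P n (DerivedCategory.Q.obj F)) : Good P n F := by
  obtain ⟨F₀, hF₀, ⟨φ⟩⟩ := hF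
  intro k E u hk hE hu
  obtain ⟨X, s, hs, g, hg⟩ := DerivedCategory.right_fac (DerivedCategory.Q.map u ≫ φ.inv)
  haveI : QuasiIso s := by rwa [← DerivedCategory.isIso_Q_map_iff_quasiIso]
  obtain ⟨E'', e, hE'', he⟩ := exists_strictPC_to hsum hqs hql
    (strictPC_mono hE (m := k + 1) (by lia)) s
  haveI : IsIso (DerivedCategory.Q.map (e ≫ s)) := by
    rw [DerivedCategory.isIso_Q_map_iff_quasiIso]; infer_instance
  refine ft_cone_of_iso hsum hqs u (e ≫ g) (asIso (DerivedCategory.Q.map (e ≫ s))).symm φ.symm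
    ?_ hu hE'' (strictPC_mono hF₀ hk)
  rw [Iso.symm_hom, Iso.symm_hom, asIso_inv, IsIso.eq_inv_comp, hg, Functor.map_comp,
    Functor.map_comp, Category.assoc, IsIso.hom_inv_id_assoc]

/-- An `n`-pseudo-coherent complex receives a quasi-isomorphism from a strict one. -/
lemma exists_strictPC_qiso (hsum : ∀ X Y : C, P X → P Y → P (X ⨯ Y))
    (hqs : PCoh.IsQuasiStableUnderKernels P) (hql : PCoh.IsQuasiLiftable P) {n : ℤ}
    {F : CochainComplex C ℤ} (hF : NPC P n (DerivedCategory.Q.obj F)) :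
    ∃ (E : CochainComplex C ℤ) (q : E ⟶ F), PCoh.IsStrictPC P n E ∧ QuasiIso q := by
  obtain ⟨b, hb⟩ := hF.exists_exactFrom
  obtain ⟨E', -, q, -, hE', hq, -, -⟩ := exists_strictPC_factorisation hsum hql
    (good_of_NPC hsum hqs hql hF)
    (strictPC_of_all (strictPCAll_of_isZero (isZero_zero (CochainComplex C ℤ))) n)
    (0 : (0 : CochainComplex C ℤ) ⟶ F) (NQ_of_isZero (isZero_zero _) hb _)
  exact ⟨E', q, hE', hq⟩

/-- A pseudo-coherent complex receives a quasi-isomorphism from a strictly pseudo-coherent one. -/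
lemma exists_strictPCAll_qiso (hsum : ∀ X Y : C, P X → P Y → P (X ⨯ Y))
    (hqs : PCoh.IsQuasiStableUnderKernels P) (hql : PCoh.IsQuasiLiftable P)
    {F : CochainComplex C ℤ} (hF : PCoh.IsPC P (DerivedCategory.Q.obj F)) :
    ∃ (E : CochainComplex C ℤ) (q : E ⟶ F), PCoh.IsStrictPCAll P E ∧ QuasiIso q := by
  obtain ⟨b, hb⟩ := NPC.exists_exactFrom (n := 0) (hF 0)
  obtain ⟨E', -, q, -, hE', hq, -, -⟩ := exists_strictPCAll_factorisation hsum hql
    (fun n => good_of_NPC hsum hqs hql (hF n))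
    (strictPCAll_of_isZero (isZero_zero (CochainComplex C ℤ)))
    (0 : (0 : CochainComplex C ℤ) ⟶ F) (NQ_of_isZero (isZero_zero _) hb _)
  exact ⟨E', q, hE', hq⟩

/-- A morphism from an `n`-pseudo-coherent object is a roof with a strict source. -/
lemma exists_strictPC_roof (hsum : ∀ X Y : C, P X → P Y → P (X ⨯ Y))
    (hqs : PCoh.IsQuasiStableUnderKernels P) (hql : PCoh.IsQuasiLiftable P) {n : ℤ}
    {E F : CochainComplex C ℤ} (hE : NPC P n (DerivedCategory.Q.obj E))
    (α : DerivedCategory.Q.obj E ⟶ DerivedCategory.Q.obj F) :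
    ∃ (E'' : CochainComplex C ℤ) (s : E'' ⟶ E) (f : E'' ⟶ F), PCoh.IsStrictPC P n E'' ∧
      QuasiIso s ∧ DerivedCategory.Q.map s ≫ α = DerivedCategory.Q.map f := by
  obtain ⟨X, s, hs, g, hg⟩ := DerivedCategory.right_fac α
  obtain ⟨E'', e, hE'', he⟩ := exists_strictPC_qiso hsum hqs hql
    (hE.of_iso (asIso (DerivedCategory.Q.map s)).symm)
  haveI : QuasiIso s := by rwa [← DerivedCategory.isIso_Q_map_iff_quasiIso]
  exact ⟨E'', e ≫ s, e ≫ g, hE'', inferInstance, by simp [hg]⟩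

/-- The cone axiom. -/
lemma NPC.of_triangle₃ (hsum : ∀ X Y : C, P X → P Y → P (X ⨯ Y))
    (hqs : PCoh.IsQuasiStableUnderKernels P) (hql : PCoh.IsQuasiLiftable P) {n : ℤ}
    {T : Triangle (DerivedCategory C)} (hT : T ∈ distinguishedTriangles)
    (h₁ : NPC P (n + 1) T.obj₁) (h₂ : NPC P n T.obj₂) : NPC P n T.obj₃ := by
  obtain ⟨E, hE, ⟨e⟩⟩ := h₁
  obtain ⟨F, hF, ⟨f⟩⟩ := h₂
  obtain ⟨E'', s, g, hE'', hs, hsg⟩ := exists_strictPC_roof hsum hqs hql
    (NPC.mk hE (Iso.refl _)) (e.hom ≫ T.mor₁ ≫ f.inv)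
  haveI : IsIso (DerivedCategory.Q.map s) := by
    rw [DerivedCategory.isIso_Q_map_iff_quasiIso]; infer_instance
  exact NPC.mk (strictPC_mappingCone hsum hE'' hF g)
    (Triangle.π₃.mapIso (isoTriangleOfIso₁₂ _ T
      (DerivedCategory.mappingCone_triangle_distinguished g) hT
      (@asIso _ _ _ _ (DerivedCategory.Q.map s) this ≪≫ e) f
      (by
        change DerivedCategory.Q.map g ≫ f.hom = _
        rw [← hsg]; simp; rfl)))

lemma NPC.shift {n : ℤ} {X : DerivedCategory C} (h : NPC P n X) (m n' : ℤ) (hn : n' + m = n) :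
    NPC P n' ((shiftFunctor (DerivedCategory C) m).obj X) := by
  obtain ⟨E, ⟨⟨b, hb⟩, hP⟩, ⟨e⟩⟩ := h
  exact NPC.mk (E := (shiftFunctor (CochainComplex C ℤ) m).obj E)
    ⟨⟨b - m, fun i hi => hb (i + m) (by lia)⟩, fun i hi => hP (i + m) (by lia)⟩
    ((DerivedCategory.Q.commShiftIso m).app E ≪≫ (shiftFunctor (DerivedCategory C) m).mapIso e)

lemma NPC.of_triangle₂ (hsum : ∀ X Y : C, P X → P Y → P (X ⨯ Y))
    (hqs : PCoh.IsQuasiStableUnderKernels P) (hql : PCoh.IsQuasiLiftable P) {n : ℤ}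
    {T : Triangle (DerivedCategory C)} (hT : T ∈ distinguishedTriangles)
    (h₁ : NPC P n T.obj₁) (h₃ : NPC P n T.obj₃) : NPC P n T.obj₂ :=
  NPC.of_triangle₃ hsum hqs hql (inv_rot_of_distTriang _ hT) (h₃.shift (-1) (n + 1) (by lia)) h₁

lemma NPC.of_triangle₁ (hsum : ∀ X Y : C, P X → P Y → P (X ⨯ Y))
    (hqs : PCoh.IsQuasiStableUnderKernels P) (hql : PCoh.IsQuasiLiftable P) {n : ℤ}
    {T : Triangle (DerivedCategory C)} (hT : T ∈ distinguishedTriangles)
    (h₂ : NPC P (n + 1) T.obj₂) (h₃ : NPC P n T.obj₃) : NPC P (n + 1) T.obj₁ :=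
  ((NPC.of_triangle₃ hsum hqs hql (rot_of_distTriang _ hT) h₂ h₃).shift (-1) (n + 1)
    (by lia)).of_iso ((shiftFunctorCompIsoId (DerivedCategory C) (1 : ℤ) (-1) (by lia)).app _)

end Groth.Agent.PCohLib
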