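import Groth.Agent.PCohLib.Basic
import Mathlib.Algebra.Homology.Embedding.CochainComplex
import Mathlib.Algebra.Homology.HomologicalComplexLimits
import Mathlib.CategoryTheory.Limits.Constructions.EventuallyConstant
import Mathlib.CategoryTheory.Functor.OfSequence

/-!
Descending constructions: modifying a complex in degrees below `i` so as to turn an
`i`-quasi-isomorphism into a quasi-isomorphism.
-/

set_option autoImplicit false
set_option linter.style.haveILetI false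
set_option linter.unusedSectionVars false
universe v u

open CategoryTheory CategoryTheory.Limits CochainComplex CochainComplex.HomComplex

namespace Groth.Agent.PCohLib

variable {C : Type u} [Category.{v} C] [Abelian C] {P : ObjectProperty C}

/-- A strictly `n`-pseudo-coherent complex which is exact above `n` has `H^n` of finite type. -/
lemma ft_homology_of_strict (hqs : PCoh.IsQuasiStableUnderKernels P) {n : ℤ}
    {K : CochainComplex C ℤ} (hK : PCoh.IsStrictPC P n K) (hac : ExactFrom (n + 1) K) :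
    PCoh.IsOfFiniteType P (K.homology n) := by
  let C' : CochainComplex C ℕ := CochainComplex.of (fun i : ℕ => K.X (n + i))
    (fun i => K.d (n + i) (n + (i + 1 : ℕ))) (fun i => K.d_comp_d _ _ _)
  have hd : ∀ i : ℕ, C'.d i (i + 1) = K.d (n + i) (n + (i + 1 : ℕ)) := fun i =>
    by simp [C', CochainComplex.of_d]
  let L : CochainComplex C ℕ := CochainComplex.augment C'
    (K.iCycles n ≫ (K.XIsoOfEq (show n = n + (0 : ℕ) by simp)).hom)
    (by
      rw [hd]
      simp only [Category.assoc]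
      erw [HomologicalComplex.XIsoOfEq_hom_comp_d]
      exact K.iCycles_d _ _)
  have hL : ∀ i : ℕ, L.ExactAt i := by
    rintro ( _ | _ | i)
    · rw [L.exactAt_iff' 0 0 1 (by simp) (by simp)]
      refine (ShortComplex.exact_iff_mono _ (L.shape 0 0 (by simp))).2 ?_
      change Mono (K.iCycles n ≫ (K.XIsoOfEq (show n = n + (0 : ℕ) by simp)).hom)
      infer_instance
    · rw [HomologicalComplex.exactAt_iff_exact_up_to_refinements _ 0 1 2 (by simp) (by simp)]
      intro A x hx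
      let x₀ : A ⟶ K.X (n + (0 : ℕ)) := x
      have hx₀ : x₀ ≫ K.d (n + (0 : ℕ)) (n + (1 : ℕ)) = 0 := by
        rw [← hd 0]; exact hx
      have hx' : (x₀ ≫ (K.XIsoOfEq (show n + (0 : ℕ) = n by simp)).hom) ≫
          K.d n (n + (1 : ℕ)) = 0 := by
        rw [Category.assoc, HomologicalComplex.XIsoOfEq_hom_comp_d, hx₀]
      refine ⟨A, 𝟙 A, inferInstance, K.liftCycles _ (n + (1 : ℕ)) (by simp) hx', ?_⟩
      change _ ≫ x₀ = _ ≫ (K.iCycles n ≫ (K.XIsoOfEq (show n = n + (0 : ℕ) by simp)).hom)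
      simp
    · rw [HomologicalComplex.exactAt_iff_exact_up_to_refinements _ (i + 1) (i + 2) (i + 3)
        (by simp) (by simp)]
      intro A x hx
      have hx' : x ≫ K.d (n + (i + 1 : ℕ)) (n + (i + 1 + 1 : ℕ)) = 0 := by
        rw [← hd (i + 1)]; exact hx
      obtain ⟨A', π, hπ, y, hy⟩ := (HomologicalComplex.exactAt_iff_exact_up_to_refinements _
        (n + (i : ℕ)) (n + (i + 1 : ℕ)) (n + (i + 1 + 1 : ℕ)) (by simp; lia) (by simp; lia)).1
        (hac _ (by lia)) x hx'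
      exact ⟨A', π, hπ, y, by rw [← hd i] at hy; exact hy⟩
  obtain ⟨b, hb⟩ := hK.1
  have hft : PCoh.IsOfFiniteType P (L.X 0) := hqs L hL ⟨(b - n).toNat + 1, fun i hi => by
      obtain ⟨i, rfl⟩ : ∃ k, i = k + 1 := ⟨i - 1, by lia⟩
      exact hb (n + i) (by lia)⟩ (fun i hi => by
      obtain ⟨i, rfl⟩ : ∃ k, i = k + 1 := ⟨i - 1, by lia⟩
      exact hK.2 (n + i) (by lia))
  exact ft_of_epi (K.homologyπ n) hft

/-- Extend an `n`-quasi-isomorphism to a quasi-isomorphism, changing degrees `< n` only. -/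
lemma exists_qiso_extension {n : ℤ} {E F : CochainComplex C ℤ} (u : E ⟶ F) (h : NQ n u) :
    ∃ (E' : CochainComplex C ℤ) (v : E ⟶ E') (u' : E' ⟶ F), v ≫ u' = u ∧ QuasiIso u' ∧
      (∀ i : ℤ, Mono (v.f i)) ∧ (∀ i : ℤ, n ≤ i → IsIso (v.f i)) := by
  let K := mappingCone u
  haveI : K.IsLE (n - 1) := by
    rw [isLE_iff]
    exact fun i hi => h.exactFrom i (by lia)
  refine ⟨ext u (K.ιTruncLE (n - 1)), extι _ _, extπ _ _, extι_extπ _ _, ?_, inferInstance,
    fun i hi => isIso_extι_f _ _ i ((K.truncLE (n - 1)).isZero_of_isStrictlyLE (n - 1) i (by lia))⟩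
  exact quasiIso_of_NQ _ fun m => NQ_extπ _ _ (NQ.of_quasiIso m _)

/-- One step of the descending construction. -/
lemma exists_step (hql : PCoh.IsQuasiLiftable P) {n : ℤ} {E F : CochainComplex C ℤ} (u : E ⟶ F)
    (h : NQ (n + 1) u) (hft : PCoh.IsOfFiniteType P ((mappingCone u).homology n)) :
    ∃ (E' : CochainComplex C ℤ) (v : E ⟶ E') (u' : E' ⟶ F) (X : C), v ≫ u' = u ∧
      (∀ i : ℤ, Mono (v.f i)) ∧ (∀ i : ℤ, i ≠ n → IsIso (v.f i)) ∧ P X ∧
      Nonempty (cokernel (v.f n) ≅ X) ∧ Nonempty (E'.X n ≅ E.X n ⊞ X) ∧ NQ n u' := by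
  obtain ⟨X, γ, hX, hγ⟩ := ft_lift hql ((mappingCone u).homologyπ n) hft
  refine ⟨ext u _, extι _ _, extπ _ _, X, extι_extπ _ _, inferInstance,
    fun i hi => isIso_extι_f _ _ i (HomologicalComplex.isZero_single_obj_X (ComplexShape.up ℤ) n X i hi),
    hX, ⟨extCokerIso _ _ n ≪≫ HomologicalComplex.singleObjXSelf _ _ _⟩,
    ⟨biprod.mapIso (Iso.refl _) (HomologicalComplex.singleObjXSelf (ComplexShape.up ℤ) n X)⟩,
    NQ_extπ _ _ (NQ_mkHomFromSingle γ h.exactFrom)⟩

/-- `F` behaves like an `n`-pseudo-coherent complex with respect to strict complexes over it. -/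
def Good (P : ObjectProperty C) (n : ℤ) (F : CochainComplex C ℤ) : Prop :=
  ∀ (k : ℤ) (E : CochainComplex C ℤ) (u : E ⟶ F), n ≤ k → PCoh.IsStrictPC P k E →
    NQ (k + 1) u → PCoh.IsOfFiniteType P ((mappingCone u).homology k)

lemma strictPC_mono {n m : ℤ} {E : CochainComplex C ℤ} (h : PCoh.IsStrictPC P n E) (hnm : n ≤ m) :
    PCoh.IsStrictPC P m E := ⟨h.1, fun i hi => h.2 i (hnm.trans hi)⟩

lemma strictPC_of_all {E : CochainComplex C ℤ} (h : PCoh.IsStrictPCAll P E) (n : ℤ) :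
    PCoh.IsStrictPC P n E := ⟨h.1, fun i _ => h.2 i⟩

/-- The result of one step: an `i`-quasi-isomorphism keeps the degrees `≥ i`. -/
lemma exists_step' [P.IsClosedUnderIsomorphisms] (hsum : ∀ X Y : C, P X → P Y → P (X ⨯ Y))
    (hql : PCoh.IsQuasiLiftable P) {k : ℤ} {E F : CochainComplex C ℤ} (u : E ⟶ F)
    (h : NQ (k + 1) u) (hft : PCoh.IsOfFiniteType P ((mappingCone u).homology k)) :
    ∃ (E' : CochainComplex C ℤ) (v : E ⟶ E') (u' : E' ⟶ F), v ≫ u' = u ∧
      (∀ i : ℤ, Mono (v.f i)) ∧ (∀ i : ℤ, i ≠ k → IsIso (v.f i)) ∧ NQ k u' ∧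
      (∀ n : ℤ, PCoh.IsStrictPC P n E → PCoh.IsStrictPC P n E') := by
  obtain ⟨E', v, u', X, hv, hmono, hiso, hX, -, ⟨e⟩, hu'⟩ := exists_step hql u h hft
  refine ⟨E', v, u', hv, hmono, hiso, hu', fun n hE => ?_⟩
  obtain ⟨⟨b, hb⟩, hP⟩ := hE
  refine ⟨⟨max b k, fun i hi => ?_⟩, fun i hi => ?_⟩
  · haveI := hiso i (by lia)
    exact (hb i (by lia)).of_iso (asIso (v.f i)).symm
  · by_cases hik : i = k
    · subst hik
      exact P.prop_of_iso e.symm (mem_biprod hsum (hP i hi) hX)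
    · haveI := hiso i hik
      exact P.prop_of_iso (asIso (v.f i)) (hP i hi)

/-- Finitely many steps. -/
lemma exists_descend_steps [P.IsClosedUnderIsomorphisms] (hsum : ∀ X Y : C, P X → P Y → P (X ⨯ Y))
    (hql : PCoh.IsQuasiLiftable P) {n i : ℤ} {E F : CochainComplex C ℤ}
    (hF : Good P n F) (hE : PCoh.IsStrictPC P n E) (u : E ⟶ F) (h : NQ i u) (m : ℕ)
    (hm : n ≤ i - m ∨ m = 0) :
    ∃ (E' : CochainComplex C ℤ) (v : E ⟶ E') (u' : E' ⟶ F), v ≫ u' = u ∧
      (∀ j : ℤ, Mono (v.f j)) ∧ (∀ j : ℤ, (i ≤ j ∨ j < i - m) → IsIso (v.f j)) ∧ NQ (i - m) u' ∧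
      PCoh.IsStrictPC P n E' := by
  induction m with
  | zero => exact ⟨E, 𝟙 E, u, Category.id_comp u, fun j => inferInstance, fun j _ => inferInstance,
      by simpa using h, hE⟩
  | succ m ih =>
    obtain ⟨E₁, v₁, u₁, hv₁, hmono₁, hiso₁, hu₁, hE₁⟩ := ih (Or.inl (by lia))
    have hk : n ≤ i - (m + 1 : ℕ) := hm.resolve_right (by lia)
    have hu₁' : NQ (i - (m + 1 : ℕ) + 1) u₁ := by
      convert hu₁ using 1; lia
    obtain ⟨E₂, v₂, u₂, hv₂, hmono₂, hiso₂, hu₂, hE₂⟩ := exists_step' hsum hql u₁ hu₁'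
      (hF _ _ u₁ hk (strictPC_mono hE₁ hk) hu₁')
    refine ⟨E₂, v₁ ≫ v₂, u₂, by rw [Category.assoc, hv₂, hv₁], fun j => ?_, fun j hj => ?_, hu₂,
      hE₂ n hE₁⟩
    · haveI := hmono₁ j; haveI := hmono₂ j
      simp only [HomologicalComplex.comp_f]; exact mono_comp _ _
    · haveI := hiso₁ j (by lia); haveI := hiso₂ j (by lia)
      simp only [HomologicalComplex.comp_f]; infer_instance

/-- The main finite descending statement. -/
lemma exists_strictPC_factorisation [P.IsClosedUnderIsomorphisms]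
    (hsum : ∀ X Y : C, P X → P Y → P (X ⨯ Y)) (hql : PCoh.IsQuasiLiftable P) {n i : ℤ}
    {E F : CochainComplex C ℤ} (hF : Good P n F) (hE : PCoh.IsStrictPC P n E) (u : E ⟶ F)
    (h : NQ i u) :
    ∃ (E' : CochainComplex C ℤ) (v : E ⟶ E') (u' : E' ⟶ F), v ≫ u' = u ∧
      PCoh.IsStrictPC P n E' ∧ QuasiIso u' ∧
      (∀ j : ℤ, Mono (v.f j)) ∧ (∀ j : ℤ, i ≤ j → IsIso (v.f j)) := by
  obtain ⟨E₁, v₁, u₁, hv₁, hmono₁, hiso₁, hu₁, hE₁⟩ :=
    exists_descend_steps hsum hql hF hE u h (i - n).toNat (by lia)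
  obtain ⟨E₂, v₂, u₂, hv₂, hu₂, hmono₂, hiso₂⟩ := exists_qiso_extension u₁ hu₁
  obtain ⟨⟨b, hb⟩, hP⟩ := hE₁
  refine ⟨E₂, v₁ ≫ v₂, u₂, by rw [Category.assoc, hv₂, hv₁],
    ⟨⟨max b i, fun j hj => ?_⟩, fun j hj => ?_⟩, hu₂, fun j => ?_, fun j hj => ?_⟩
  · haveI := hiso₂ j (by lia)
    exact (hb j (by lia)).of_iso (asIso (v₂.f j)).symm
  · haveI := hiso₂ j (by lia)
    exact P.prop_of_iso (asIso (v₂.f j)) (hP j hj)
  · haveI := hmono₁ j; haveI := hmono₂ j
    simp only [HomologicalComplex.comp_f]; exact mono_comp _ _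
  · haveI := hiso₁ j (Or.inl hj); haveI := hiso₂ j (by lia)
    simp only [HomologicalComplex.comp_f]; infer_instance

lemma ofSequence_map_f {X : ℕ → CochainComplex C ℤ} (φ : ∀ m, X m ⟶ X (m + 1)) (q : ℤ)
    (hm : ∀ m, Mono ((φ m).f q)) (a b : ℕ) (hab : a ≤ b) :
    Mono (((Functor.ofSequence φ).map (homOfLE hab)).f q) ∧
      ((∀ m, a ≤ m → m < b → IsIso ((φ m).f q)) →
        IsIso (((Functor.ofSequence φ).map (homOfLE hab)).f q)) := by
  induction b, hab using Nat.le_induction with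
  | base =>
    rw [show homOfLE (le_refl a) = 𝟙 a from rfl, (Functor.ofSequence φ).map_id,
      HomologicalComplex.id_f]
    exact ⟨inferInstance, fun _ => inferInstance⟩
  | succ b hab ih =>
    have e : (Functor.ofSequence φ).map (homOfLE (hab.trans (Nat.le_succ b))) =
        (Functor.ofSequence φ).map (homOfLE hab) ≫ φ b := by
      exact ((Functor.ofSequence φ).map_comp (homOfLE hab) (homOfLE (Nat.le_succ b))).trans
        (congrArg _ (Functor.ofSequence_map_homOfLE_succ φ b))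
    have e' : ((Functor.ofSequence φ).map (homOfLE (hab.trans (Nat.le_succ b)))).f q =
        ((Functor.ofSequence φ).map (homOfLE hab)).f q ≫ (φ b).f q := by rw [e]; rfl
    rw [e']
    refine ⟨@mono_comp _ _ _ _ _ _ ih.1 _ (hm b), fun hq => ?_⟩
    exact @IsIso.comp_isIso _ _ _ _ _ _ _ (ih.2 fun m h₁ h₂ => hq m h₁ (by lia))
      (hq b hab (by lia))

section Limit

/-- A stage of the infinite descending construction. -/
structure Stage (P : ObjectProperty C) (F : CochainComplex C ℤ) (i : ℤ) (m : ℕ) where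
  obj : CochainComplex C ℤ
  hom : obj ⟶ F
  all : PCoh.IsStrictPCAll P obj
  nq : NQ (i - m) hom

lemma Stage.exists_next [P.IsClosedUnderIsomorphisms] (hsum : ∀ X Y : C, P X → P Y → P (X ⨯ Y))
    (hql : PCoh.IsQuasiLiftable P) {F : CochainComplex C ℤ} (hF : ∀ n, Good P n F) {i : ℤ}
    {m : ℕ} (S : Stage P F i m) :
    ∃ (S' : Stage P F i (m + 1)) (v : S.obj ⟶ S'.obj), v ≫ S'.hom = S.hom ∧
      (∀ j : ℤ, Mono (v.f j)) ∧ (∀ j : ℤ, j ≠ i - (m + 1 : ℕ) → IsIso (v.f j)) := by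
  have h' : NQ (i - (m + 1 : ℕ) + 1) S.hom := by
    convert S.nq using 1; lia
  obtain ⟨E', v, u', hv, hmono, hiso, hu', hE'⟩ := exists_step' hsum hql S.hom h'
    (hF _ _ _ S.hom le_rfl (strictPC_of_all S.all _) h')
  exact ⟨⟨E', u', ⟨(hE' i (strictPC_of_all S.all i)).1,
      fun j => (hE' j (strictPC_of_all S.all j)).2 j le_rfl⟩, hu'⟩, v, hv, hmono, hiso⟩

/-- The infinite descending statement. -/
lemma exists_strictPCAll_factorisation [P.IsClosedUnderIsomorphisms]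
    (hsum : ∀ X Y : C, P X → P Y → P (X ⨯ Y)) (hql : PCoh.IsQuasiLiftable P) {i : ℤ}
    {E F : CochainComplex C ℤ} (hF : ∀ n, Good P n F) (hE : PCoh.IsStrictPCAll P E) (u : E ⟶ F)
    (h : NQ i u) :
    ∃ (E' : CochainComplex C ℤ) (v : E ⟶ E') (u' : E' ⟶ F), v ≫ u' = u ∧
      PCoh.IsStrictPCAll P E' ∧ QuasiIso u' ∧
      (∀ j : ℤ, Mono (v.f j)) ∧ (∀ j : ℤ, i ≤ j → IsIso (v.f j)) := by
  choose next v hv hmono hiso using fun (m : ℕ) (S : Stage P F i m) =>
    S.exists_next hsum hql hF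
  let S : (m : ℕ) → Stage P F i m := fun m =>
    Nat.rec ⟨E, u, hE, by simpa using h⟩ (fun m S => next m S) m
  let φ : ∀ m : ℕ, (S m).obj ⟶ (S (m + 1)).obj := fun m => v m (S m)
  let D : ℕ ⥤ CochainComplex C ℤ := Functor.ofSequence φ
  have hmap : ∀ (q : ℤ) (a b : ℕ) (hab : a ≤ b), Mono ((D.map (homOfLE hab)).f q) ∧
      ((i - a ≤ q ∨ q < i - b) → IsIso ((D.map (homOfLE hab)).f q)) := fun q a b hab =>
    have H := ofSequence_map_f φ q (fun m => hmono m (S m) q) a b hab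
    ⟨H.1, fun hq => H.2 fun m h₁ h₂ => hiso m (S m) q (by lia)⟩
  have hev : ∀ (q : ℤ) (N : ℕ), i - N ≤ q →
      (D ⋙ HomologicalComplex.eval C _ q).IsEventuallyConstantFrom N := fun q N hN b f =>
    (hmap q N b (leOfHom f)).2 (Or.inl hN)
  haveI : ∀ q : ℤ, HasColimit (D ⋙ HomologicalComplex.eval C _ q) := fun q =>
    (hev q (i - q).toNat (by lia)).hasColimit
  let c := HomologicalComplex.coconeOfHasColimitEval D
  have hc : IsColimit c := HomologicalComplex.isColimitCoconeOfHasColimitEval D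
  have hι : ∀ (q : ℤ) (N : ℕ), i - N ≤ q → IsIso ((c.ι.app N).f q) := fun q N hN =>
    (hev q N hN).isIso_ι_of_isColimit (c := (HomologicalComplex.eval C _ q).mapCocone c)
      (colimit.isColimit (D ⋙ HomologicalComplex.eval C _ q))
  let t : Cocone D := ⟨F, NatTrans.ofSequence (fun m => (S m).hom) (fun m => by
    rw [Functor.ofSequence_map_homOfLE_succ]
    exact (hv m (S m)).trans (Category.comp_id _).symm)⟩
  refine ⟨c.pt, c.ι.app 0, hc.desc t, hc.fac t 0, ⟨?_, fun j => ?_⟩, ?_, fun j => ?_,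
    fun j hj => hι j 0 (by simpa using hj)⟩
  · obtain ⟨b, hb⟩ := hE.1
    refine ⟨max b i, fun j hj => ?_⟩
    haveI := hι j 0 (by simp; lia)
    exact (hb j (by lia)).of_iso (asIso ((c.ι.app 0).f j)).symm
  · haveI := hι j (i - j).toNat (by lia)
    exact P.prop_of_iso (asIso ((c.ι.app (i - j).toNat).f j)) ((S (i - j).toNat).all.2 j)
  · refine ⟨fun j => ?_⟩
    rw [quasiIsoAt_iff_isIso_homologyMap]
    let N := (i - j).toNat + 1
    haveI : IsIso (HomologicalComplex.homologyMap (c.ι.app N) j) := by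
      rw [← quasiIsoAt_iff_isIso_homologyMap,
        quasiIsoAt_iff' _ (j - 1) j (j + 1) (by simp) (by simp)]
      let ψ := (HomologicalComplex.shortComplexFunctor' C (ComplexShape.up ℤ) (j - 1) j (j + 1)).map
        (c.ι.app N)
      haveI : IsIso ψ.τ₁ := hι _ N (by lia)
      haveI : IsIso ψ.τ₂ := hι _ N (by lia)
      haveI : IsIso ψ.τ₃ := hι _ N (by lia)
      exact ShortComplex.quasiIso_of_epi_of_isIso_of_mono ψ
    haveI : IsIso (HomologicalComplex.homologyMap (c.ι.app N ≫ hc.desc t) j) := by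
      rw [hc.fac t N]
      exact (S N).nq.1 j (by lia)
    rw [HomologicalComplex.homologyMap_comp] at this
    exact IsIso.of_isIso_comp_left (HomologicalComplex.homologyMap (c.ι.app N) j) _
  · have hN := (i - j).toNat
    haveI := hι j (i - j).toNat (by lia)
    have : (c.ι.app 0).f j =
        (D.map (homOfLE (Nat.zero_le (i - j).toNat))).f j ≫ (c.ι.app (i - j).toNat).f j := by
      rw [← HomologicalComplex.comp_f, c.w]
    rw [this]
    exact @mono_comp _ _ _ _ _ _ (hmap j 0 (i - j).toNat (Nat.zero_le _)).1 _ inferInstance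

end Limit

end Groth.Agent.PCohLib
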