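import Groth.Agent.PCohLib.Derived

/-!
Characterisations of `n`-pseudo-coherent objects.
-/

set_option autoImplicit false
set_option linter.style.haveILetI false
set_option linter.unusedSectionVars false
universe w v u

open CategoryTheory CategoryTheory.Limits CategoryTheory.Pretriangulated ZeroObject
open CochainComplex (mappingCone)

namespace Groth.Agent.PCohLib

variable {C : Type u} [Category.{v} C] [Abelian C] [HasDerivedCategory.{w} C] {P : ObjectProperty C}
  [P.IsClosedUnderIsomorphisms] [P.ContainsZero]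

lemma exactFrom_of_homology {n : ℤ} {X : CochainComplex C ℤ} {F : DerivedCategory C}
    (e : DerivedCategory.Q.obj X ≅ F)
    (h : ∀ i : ℤ, n ≤ i → IsZero ((DerivedCategory.homologyFunctor C i).obj F)) :
    ExactFrom n X := fun i hi => by
  rw [HomologicalComplex.exactAt_iff_isZero_homology]
  exact (h i hi).of_iso ((homologyQIso X i).symm ≪≫ (DerivedCategory.homologyFunctor C i).mapIso e)

lemma exists_strictPC_vanishing (hsum : ∀ X Y : C, P X → P Y → P (X ⨯ Y))
    (hqs : PCoh.IsQuasiStableUnderKernels P) (hql : PCoh.IsQuasiLiftable P) {n m : ℤ}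
    {X : CochainComplex C ℤ} {F : DerivedCategory C} (e : DerivedCategory.Q.obj X ≅ F)
    (hF : NPC P n (DerivedCategory.Q.obj X))
    (hac : ∀ i : ℤ, m ≤ i → IsZero ((DerivedCategory.homologyFunctor C i).obj F)) :
    ∃ E : CochainComplex C ℤ, PCoh.IsStrictPC P n E ∧ (∀ i : ℤ, m ≤ i → IsZero (E.X i)) ∧
      Nonempty (DerivedCategory.Q.obj E ≅ F) := by
  obtain ⟨E, v, q, -, hE, hq, -, hiso⟩ := exists_strictPC_factorisation hsum hql
    (good_of_NPC hsum hqs hql hF)
    (strictPC_of_all (strictPCAll_of_isZero (isZero_zero (CochainComplex C ℤ))) n)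
    (0 : (0 : CochainComplex C ℤ) ⟶ X)
    (NQ_of_isZero (isZero_zero _) (exactFrom_of_homology e hac) _)
  haveI : IsIso (DerivedCategory.Q.map q) := by
    rw [DerivedCategory.isIso_Q_map_iff_quasiIso]; exact hq
  refine ⟨E, hE, fun i hi => ?_, ⟨asIso (DerivedCategory.Q.map q) ≪≫ e⟩⟩
  haveI := hiso i hi
  exact ((HomologicalComplex.eval C (ComplexShape.up ℤ) i).map_isZero
    (isZero_zero (CochainComplex C ℤ))).of_iso (asIso (v.f i)).symm

lemma exists_strictPCAll_vanishing (hsum : ∀ X Y : C, P X → P Y → P (X ⨯ Y))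
    (hqs : PCoh.IsQuasiStableUnderKernels P) (hql : PCoh.IsQuasiLiftable P) {m : ℤ}
    {X : CochainComplex C ℤ} {F : DerivedCategory C} (e : DerivedCategory.Q.obj X ≅ F)
    (hF : PCoh.IsPC P (DerivedCategory.Q.obj X))
    (hac : ∀ i : ℤ, m ≤ i → IsZero ((DerivedCategory.homologyFunctor C i).obj F)) :
    ∃ E : CochainComplex C ℤ, (∀ i : ℤ, P (E.X i)) ∧ (∀ i : ℤ, m ≤ i → IsZero (E.X i)) ∧
      Nonempty (DerivedCategory.Q.obj E ≅ F) := by
  obtain ⟨E, v, q, -, hE, hq, -, hiso⟩ := exists_strictPCAll_factorisation hsum hql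
    (fun n => good_of_NPC hsum hqs hql (hF n))
    (strictPCAll_of_isZero (isZero_zero (CochainComplex C ℤ)))
    (0 : (0 : CochainComplex C ℤ) ⟶ X)
    (NQ_of_isZero (isZero_zero _) (exactFrom_of_homology e hac) _)
  haveI : IsIso (DerivedCategory.Q.map q) := by
    rw [DerivedCategory.isIso_Q_map_iff_quasiIso]; exact hq
  refine ⟨E, hE.2, fun i hi => ?_, ⟨asIso (DerivedCategory.Q.map q) ≪≫ e⟩⟩
  haveI := hiso i hi
  exact ((HomologicalComplex.eval C (ComplexShape.up ℤ) i).map_isZero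
    (isZero_zero (CochainComplex C ℤ))).of_iso (asIso (v.f i)).symm

/-- A strictly perfect complex with an `n`-quasi-isomorphism gives `n`-pseudo-coherence. -/
lemma NPC_of_NQ {n : ℤ} {E F : CochainComplex C ℤ} (hE : PCoh.IsStrictPC P n E) (u : E ⟶ F)
    (h : NQ n u) : NPC P n (DerivedCategory.Q.obj F) := by
  obtain ⟨E', v, u', -, hu', -, hiso⟩ := exists_qiso_extension u h
  haveI : IsIso (DerivedCategory.Q.map u') := by
    rw [DerivedCategory.isIso_Q_map_iff_quasiIso]; exact hu'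
  obtain ⟨⟨b, hb⟩, hP⟩ := hE
  refine NPC.mk ⟨⟨max b n, fun i hi => ?_⟩, fun i hi => ?_⟩ (asIso (DerivedCategory.Q.map u'))
  · haveI := hiso i (by lia)
    exact (hb i (by lia)).of_iso (asIso (v.f i)).symm
  · haveI := hiso i hi
    exact P.prop_of_iso (asIso (v.f i)) (hP i hi)

lemma isZero_of_iso_zero_complex {E : CochainComplex C ℤ} (v : (0 : CochainComplex C ℤ) ⟶ E)
    (i : ℤ) [IsIso (v.f i)] : IsZero (E.X i) :=
  ((HomologicalComplex.eval C (ComplexShape.up ℤ) i).map_isZero
    (isZero_zero (CochainComplex C ℤ))).of_iso (asIso (v.f i)).symm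

lemma NPC_iff_nIso (hsum : ∀ X Y : C, P X → P Y → P (X ⨯ Y))
    (hqs : PCoh.IsQuasiStableUnderKernels P) (hql : PCoh.IsQuasiLiftable P) (n : ℤ)
    (F : DerivedCategory C) :
    NPC P n F ↔ ∃ (E : CochainComplex C ℤ) (a b : ℤ) (α : DerivedCategory.Q.obj E ⟶ F),
      (∀ i : ℤ, i < a ∨ b < i → IsZero (E.X i)) ∧ (∀ i : ℤ, P (E.X i)) ∧
      (∀ i : ℤ, n < i → IsIso ((DerivedCategory.homologyFunctor C i).map α)) ∧
      Epi ((DerivedCategory.homologyFunctor C n).map α) := by
  obtain ⟨X, ⟨e⟩⟩ : ∃ X, Nonempty (DerivedCategory.Q.obj X ≅ F) :=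
    ⟨_, ⟨DerivedCategory.Q.objObjPreimageIso F⟩⟩
  constructor
  · intro hF
    have hX := hF.of_iso e.symm
    obtain ⟨b₀, hb₀⟩ := hX.exists_exactFrom
    let b := max b₀ n
    obtain ⟨E, v, u, -, hmono, hiso, hu, hE⟩ := exists_descend_steps hsum hql
      (good_of_NPC hsum hqs hql hX)
      (strictPC_of_all (strictPCAll_of_isZero (isZero_zero (CochainComplex C ℤ))) n)
      (0 : (0 : CochainComplex C ℤ) ⟶ X)
      (NQ_of_isZero (n := b) (isZero_zero _) (fun i hi => hb₀ i (by lia)) _) (b - n).toNat (by lia)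
    have hz : ∀ i : ℤ, i < n ∨ b ≤ i → IsZero (E.X i) := fun i hi =>
      haveI := hiso i (by lia)
      isZero_of_iso_zero_complex v i
    refine ⟨E, n, b, DerivedCategory.Q.map u ≫ e.hom, fun i hi => hz i (by lia), fun i => ?_,
      fun i hi => ?_, ?_⟩
    · by_cases hi : n ≤ i
      · exact hE.2 i hi
      · exact P.prop_of_isZero (hz i (by lia))
    · have := (isIso_homologyMap_Q_iff u i).2 (hu.1 i (by lia))
      rw [Functor.map_comp]; infer_instance
    · have hu' : NQ n u := by convert hu using 1; lia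
      have := (epi_homologyMap_Q_iff u n).2 hu'.2
      rw [Functor.map_comp]; exact epi_comp _ _
  · rintro ⟨E, a, b, α, hvan, hP, hiso, hepi⟩
    have hE : PCoh.IsStrictPC P n E := ⟨⟨b, fun i hi => hvan i (Or.inr hi)⟩, fun i _ => hP i⟩
    obtain ⟨E'', s, f, hE'', hs, hf⟩ :=
      exists_strictPC_roof hsum hqs hql (NPC.mk hE (Iso.refl _)) (α ≫ e.inv)
    haveI : IsIso (DerivedCategory.Q.map s) := by
      rw [DerivedCategory.isIso_Q_map_iff_quasiIso]; exact hs
    refine (NPC_of_NQ hE'' f ⟨fun i hi => ?_, ?_⟩).of_iso e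
    · haveI := hiso i hi
      rw [← isIso_homologyMap_Q_iff, ← hf, Functor.map_comp, Functor.map_comp]
      infer_instance
    · haveI := hepi
      rw [← epi_homologyMap_Q_iff, ← hf, Functor.map_comp, Functor.map_comp]
      exact epi_comp _ _

lemma isIso_inr_f_of_isZero {E F : CochainComplex C ℤ} (hE : IsZero E) (u : E ⟶ F) (i : ℤ) :
    IsIso ((CochainComplex.mappingCone.inr u).f i) := by
  have hz : ∀ j : ℤ, IsZero (E.X j) := fun j =>
    (HomologicalComplex.eval C (ComplexShape.up ℤ) j).map_isZero hE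
  refine ⟨(CochainComplex.mappingCone.snd u).v i i (add_zero _), by simp, ?_⟩
  apply CochainComplex.mappingCone.ext_from u (i + 1) i rfl
  · exact (hz _).eq_of_src _ _
  · simp

/-- The natural comparison: `H^k(cone (0 ⟶ F)) ≅ H^k F`. -/
noncomputable def coneZeroHomologyIso {E F : CochainComplex C ℤ} (hE : IsZero E) (u : E ⟶ F)
    (k : ℤ) : F.homology k ≅ (mappingCone u).homology k :=
  haveI := isIso_inr_f_of_isZero hE u
  haveI : IsIso (CochainComplex.mappingCone.inr u) := HomologicalComplex.Hom.isIso_of_components _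
  asIso (HomologicalComplex.homologyMap (CochainComplex.mappingCone.inr u) k)

lemma NPC_iff_ft_homology (hsum : ∀ X Y : C, P X → P Y → P (X ⨯ Y))
    (hqs : PCoh.IsQuasiStableUnderKernels P) (hql : PCoh.IsQuasiLiftable P) (n : ℤ)
    (F : DerivedCategory C)
    (hac : ∀ i : ℤ, n < i → IsZero ((DerivedCategory.homologyFunctor C i).obj F)) :
    NPC P n F ↔ PCoh.IsOfFiniteType P ((DerivedCategory.homologyFunctor C n).obj F) := by
  obtain ⟨X, ⟨e⟩⟩ : ∃ X, Nonempty (DerivedCategory.Q.obj X ≅ F) :=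
    ⟨_, ⟨DerivedCategory.Q.objObjPreimageIso F⟩⟩
  let e' : (DerivedCategory.homologyFunctor C n).obj F ≅ X.homology n :=
    ((DerivedCategory.homologyFunctor C n).mapIso e).symm ≪≫ homologyQIso X n
  have hX : ExactFrom (n + 1) X := exactFrom_of_homology e fun i hi => hac i (by lia)
  constructor
  · rintro ⟨E, hE, ⟨φ⟩⟩
    exact ft_of_iso ((homologyQIso E n).symm ≪≫ (DerivedCategory.homologyFunctor C n).mapIso φ)
      (ft_homology_of_strict hqs hE (exactFrom_of_homology φ fun i hi => hac i (by lia)))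
  · intro h
    obtain ⟨E, v, u, -, hmono, hiso, hu, hE⟩ := exists_step' hsum hql
      (0 : (0 : CochainComplex C ℤ) ⟶ X) (NQ_of_isZero (isZero_zero _) hX _)
      (ft_of_iso (coneZeroHomologyIso (isZero_zero _) _ n) (ft_of_iso e' h))
    exact (NPC_of_NQ (hE n (strictPC_of_all (strictPCAll_of_isZero (isZero_zero _)) n)) u hu).of_iso e

end Groth.Agent.PCohLib
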